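import Cfsg.Agent.SL2.Torus

/-!
Standard elements of SL₂, unipotent elements, orders of elements, class sizes, the
projective group.
-/

set_option autoImplicit false

open Matrix

namespace Cfsg.Agent.SL2

variable {F : Type*} [Field F]

/-- The upper unitriangular matrix `(1 b; 0 1)`. -/
def upT (b : F) : SLT F := mkSL !![1, b; 0, 1] (by simp [det_fin_two])

/-- The lower unitriangular matrix `(1 0; c 1)`. -/
def loT (c : F) : SLT F := mkSL !![1, 0; c, 1] (by simp [det_fin_two])

/-- The diagonal matrix `diag (a, a⁻¹)`. -/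
def dg (a : Fˣ) : SLT F := mkSL !![(a : F), 0; 0, ((a⁻¹ : Fˣ) : F)] (by simp [det_fin_two])

/-- The companion matrix `(0 -1; 1 t)`. -/
def cmp (t : F) : SLT F := mkSL (comp t 1) (det_comp t 1)

/-- The matrix `(0 1; -1 0)`. -/
def wS : SLT F := mkSL !![0, 1; -1, 0] (by simp [det_fin_two])

theorem upT_val (b : F) : (upT b).1 = !![1, b; 0, 1] := rfl
theorem loT_val (b : F) : (loT b).1 = !![1, 0; b, 1] := rfl
theorem dg_val (a : Fˣ) : (dg a).1 = !![(a : F), 0; 0, (a : F)⁻¹] := by simp [dg]
theorem cmp_val (t : F) : (cmp t).1 = !![0, -1; 1, t] := rfl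
theorem wS_val : (wS : SLT F).1 = !![0, 1; -1, 0] := rfl

@[simp] theorem trace_upT (b : F) : (upT b).1.trace = 2 := by
  simp [upT_val, trace_fin_two]; norm_num
@[simp] theorem trace_cmp (t : F) : (cmp t).1.trace = t := trace_comp t 1
@[simp] theorem trace_dg (a : Fˣ) : (dg a).1.trace = a + (a : F)⁻¹ := by
  simp [dg_val, trace_fin_two]
@[simp] theorem trace_wS : (wS : SLT F).1.trace = 0 := by simp [wS_val, trace_fin_two]

theorem cmp_not_isScal (t : F) : ¬ IsScal (cmp t).1 := comp_not_isScal t 1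

theorem upT_add (a b : F) : upT (a + b) = upT a * upT b := by
  apply sl_ext; apply m2_ext <;> simp [upT_val, mul_ap, add_comm]

theorem upT_zero : upT (0 : F) = 1 := by
  apply sl_ext; apply m2_ext <;> simp [upT_val]

theorem upT_neg (a : F) : upT (-a) = (upT a)⁻¹ := by
  rw [eq_inv_iff_mul_eq_one, ← upT_add, neg_add_cancel, upT_zero]

theorem upT_injective : Function.Injective (upT : F → SLT F) := by
  intro a b h
  have := congrArg (fun g : SLT F => g.1 0 1) h
  simpa [upT_val] using this

theorem isScal_upT {b : F} : IsScal (upT b).1 ↔ b = 0 := by simp [IsScal, upT_val]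

theorem Q_upT (b x y : F) : Q (upT b).1 x y = -b * y ^ 2 := by simp [Q, upT_val]

theorem dg_mul (a b : Fˣ) : dg (a * b) = dg a * dg b := by
  apply sl_ext; apply m2_ext <;> simp [dg_val, mul_ap, mul_comm]

theorem dg_one : dg (1 : Fˣ) = 1 := by
  apply sl_ext; apply m2_ext <;> simp [dg_val]

/-- The diagonal embedding of the multiplicative group. -/
def dgHom : Fˣ →* SLT F where
  toFun := dg
  map_one' := dg_one
  map_mul' := dg_mul

theorem dgHom_apply (a : Fˣ) : dgHom a = dg a := rfl

theorem dg_injective : Function.Injective (dg : Fˣ → SLT F) := by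
  intro a b h
  have := congrArg (fun g : SLT F => g.1 0 0) h
  simpa [dg_val, Units.ext_iff] using this

theorem dg_neg_one : dg (-1 : Fˣ) = -1 := by
  apply sl_ext; apply m2_ext <;> simp [dg_val]

theorem spl_dg {a : Fˣ} (ha : (a : F) ^ 2 ≠ 1) : Spl (dg a).1.trace 1 := by
  refine ⟨a, (a : F)⁻¹, fun e => ha ?_, by simp, by simp⟩
  rw [sq]; nth_rewrite 2 [e]; simp

theorem Spl.exists_dg {t : F} (h : Spl t 1) : ∃ a : Fˣ, (a : F) ^ 2 ≠ 1 ∧ (dg a).1.trace = t := by
  obtain ⟨a, b, hab, h1, h2⟩ := h
  have ha : a ≠ 0 := left_ne_zero_of_mul_eq_one h2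
  have hb : b = a⁻¹ := (eq_inv_of_mul_eq_one_right h2)
  refine ⟨Units.mk0 a ha, fun e => hab ?_, by simp [← h1, hb]⟩
  apply mul_left_cancel₀ ha
  rw [h2, ← sq]; exact e

/-! ### Unipotent elements -/

theorem sq_sub_one_of_trace_two {m : M2 F} (ht : m.trace = 2) (hd : m.det = 1) :
    (m - 1) * (m - 1) = 0 := by
  have := cayley m
  rw [ht, hd] at this
  simp only [sub_mul, mul_sub, this, mul_one, one_mul, two_smul, neg_smul, one_smul]
  abel

theorem pow_of_trace_two {m : M2 F} (ht : m.trace = 2) (hd : m.det = 1) (n : ℕ) :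
    m ^ n = 1 + (n : F) • (m - 1) := by
  induction n with
  | zero => simp
  | succ n ih =>
    have h := sq_sub_one_of_trace_two ht hd
    have : m ^ (n + 1) = (1 + (n : F) • (m - 1)) * (1 + (m - 1)) := by
      rw [pow_succ, ih]; simp
    rw [this, add_mul, mul_add, mul_add, smul_mul_assoc, smul_mul_assoc, h]
    simp [add_smul]
    abel

theorem trace_det_of_pow_char_pow (p : ℕ) [Fact p.Prime] [CharP F p] {m : M2 F} {k : ℕ}
    (h : m ^ p ^ k = 1) : m.trace = 2 ∧ m.det = 1 := by
  have hn : IsNilpotent (m - 1) := by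
    refine ⟨p ^ k, ?_⟩
    rw [sub_pow_char_pow_of_commute _ _ (Commute.one_right m), h, one_pow, sub_self]
  have h1 := (Matrix.isNilpotent_trace_of_isNilpotent hn).eq_zero
  have h2 : (m - 1).det = 0 := by
    obtain ⟨n, hn⟩ := hn
    have := congrArg Matrix.det hn
    rw [det_pow, det_zero] at this
    exact eq_zero_of_pow_eq_zero this
  rw [trace_fin_two] at h1 ⊢
  rw [det_fin_two] at h2 ⊢
  simp at h1 h2
  exact ⟨by linear_combination h1, by linear_combination h2 + h1⟩

theorem sl_pow_char_of_trace_two (p : ℕ) [CharP F p] {g : SLT F} (ht : g.1.trace = 2) :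
    g ^ p = 1 := by
  apply sl_ext
  rw [sl_pow_val, pow_of_trace_two ht g.2]; simp

theorem sl_orderOf_eq_char_iff (p : ℕ) [Fact p.Prime] [CharP F p] {g : SLT F} :
    orderOf g = p ↔ g.1.trace = 2 ∧ g ≠ 1 := by
  constructor
  · intro h
    refine ⟨(trace_det_of_pow_char_pow p (k := 1) ?_).1, ?_⟩
    · rw [pow_one, ← sl_pow_val, ← h, pow_orderOf_eq_one]; rfl
    · rintro rfl
      rw [orderOf_one] at h
      exact (Fact.out : p.Prime).one_lt.ne h
  · rintro ⟨h1, h2⟩
    exact orderOf_eq_prime (sl_pow_char_of_trace_two p h1) h2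

theorem not_isScal_of_trace_two {g : SLT F} (ht : g.1.trace = 2) (h1 : g ≠ 1) : ¬ IsScal g.1 := by
  intro h
  rcases sl_isScal_iff.1 h with e | e
  · exact h1 e
  · apply h1
    have h4 : (2 : F) * 2 = 0 := by
      rw [e] at ht
      simp at ht
      linear_combination -ht
    have h2 : (2 : F) = 0 := by simpa using h4
    rw [e]; apply sl_ext
    have : (-1 : F) = 1 := by linear_combination -h2
    apply m2_ext <;> simp [this]

theorem sl_neg_eq_self (h2 : (2 : F) = 0) (g : SLT F) : -g = g := by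
  apply sl_ext
  ext i j
  simp only [sl_neg_val, Matrix.neg_apply]
  linear_combination (-g.1 i j) * h2

theorem sl_neg_ne_self (h2 : (2 : F) ≠ 0) (g : SLT F) : -g ≠ g := by
  intro e
  have h := sl_det g
  have e' : ∀ i j, g.1 i j = 0 := fun i j => by
    have := congrArg (fun x : SLT F => x.1 i j) e
    simp only [sl_neg_val, Matrix.neg_apply] at this
    apply mul_left_cancel₀ h2
    linear_combination -this
  simp [e'] at h

theorem trace_eq_of_disc {t : F} (h : t ^ 2 = 4) : t = 2 ∨ t = -2 := by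
  have : (t - 2) * (t + 2) = 0 := by linear_combination h
  rcases mul_eq_zero.1 this with h | h
  · left; linear_combination h
  · right; linear_combination h

theorem sl_trace_neg (g : SLT F) : (-g).1.trace = -g.1.trace := by simp

/-- A non-central element of trace two is conjugate to an upper unitriangular matrix. -/
theorem isConj_upT {g : SLT F} (ht : g.1.trace = 2) (hs : ¬ IsScal g.1) :
    ∃ b : F, b ≠ 0 ∧ IsConj g (upT b) := by
  obtain ⟨x, y, hx⟩ := exists_Q_ne_zero hs
  refine ⟨-Q g.1 x y, neg_ne_zero.2 hx, sl_isConj_of_Q (by simp [ht]) hx (x' := 0) (y' := 1) ?_⟩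
  simp [Q_upT]

theorem upT_isConj_iff {b b' : F} (hb : b ≠ 0) (hb' : b' ≠ 0) :
    IsConj (upT b) (upT b') ↔ IsSquare (b * b') := by
  constructor
  · intro h
    obtain ⟨x, y, e⟩ := Q_range_of_isConj h ⟨0, 1, rfl⟩
    simp only [Q_upT] at e
    exact ⟨b' * y, by linear_combination b' * e⟩
  · rintro ⟨s, hs⟩
    refine sl_isConj_of_Q (by simp) (x := 0) (y := 1) (x' := 0) (y' := s / b') ?_ ?_
    · simp [Q_upT, hb]
    · simp only [Q_upT]; field_simp; linear_combination -hs

theorem isSquare_mul_of_not [Finite F] {a b : F} (ha : ¬ IsSquare a) (hb : ¬ IsSquare b) :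
    IsSquare (a * b) := by
  classical
  cases nonempty_fintype F
  have ha0 : a ≠ 0 := by rintro rfl; exact ha IsSquare.zero
  have hb0 : b ≠ 0 := by rintro rfl; exact hb IsSquare.zero
  rw [← quadraticChar_neg_one_iff_not_isSquare] at ha hb
  rw [← quadraticChar_one_iff_isSquare (mul_ne_zero ha0 hb0), map_mul, ha, hb]; norm_num

theorem two_ne_zero_of_odd [Fintype F] (h : Odd (Fintype.card F)) : (2 : F) ≠ 0 := by
  intro h2
  have := FiniteField.even_card_of_char_two (F := F)
    (CharP.ringChar_of_prime_eq_zero Nat.prime_two (by exact_mod_cast h2))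
  rw [Nat.odd_iff] at h; omega

theorem odd_of_two_ne_zero [Fintype F] (h : (2 : F) ≠ 0) : Odd (Fintype.card F) := by
  rw [Nat.odd_iff]
  apply FiniteField.odd_card_of_char_ne_two
  intro e
  apply h
  have := ringChar.spec F 2
  rw [e] at this
  exact_mod_cast this.2 dvd_rfl

theorem two_eq_zero_of_even [Fintype F] (h : 2 ∣ Fintype.card F) : (2 : F) = 0 := by
  by_contra h2
  have := odd_of_two_ne_zero h2
  rw [Nat.odd_iff] at this; omega

theorem even_of_two_eq_zero [Fintype F] (h : (2 : F) = 0) : 2 ∣ Fintype.card F := by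
  by_contra h2
  exact two_ne_zero_of_odd (F := F) (by rw [Nat.odd_iff]; omega) h

theorem two_ne_zero_of_char (p : ℕ) [Fact p.Prime] [CharP F p] (hp : p ≠ 2) : (2 : F) ≠ 0 := by
  intro h
  have := (CharP.cast_eq_zero_iff F p 2).1 (by exact_mod_cast h)
  exact hp ((Nat.prime_dvd_prime_iff_eq Fact.out Nat.prime_two).1 this)

theorem exists_nonsquare [Finite F] (h : (2 : F) ≠ 0) : ∃ a : F, ¬ IsSquare a := by
  apply FiniteField.exists_nonsquare
  intro e
  apply h
  have := ringChar.spec F 2
  rw [e] at this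
  exact_mod_cast this.2 dvd_rfl

/-! ### Orders of semisimple elements -/

theorem pow_of_mem_cent_ell [Fintype F] {s g : SLT F} (hs : Ell s.1.trace 1)
    (hg : g ∈ Subgroup.centralizer ({s} : Set (SLT F))) : g ^ (Fintype.card F + 1) = 1 := by
  have := pow_card_eq_one' (x := (⟨g, hg⟩ : Subgroup.centralizer ({s} : Set (SLT F))))
  rw [card_cent_ell hs] at this
  exact congrArg Subtype.val this

theorem pow_of_mem_cent_spl [Fintype F] {s g : SLT F} (hs : Spl s.1.trace 1)
    (hg : g ∈ Subgroup.centralizer ({s} : Set (SLT F))) : g ^ (Fintype.card F - 1) = 1 := by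
  have := pow_card_eq_one' (x := (⟨g, hg⟩ : Subgroup.centralizer ({s} : Set (SLT F))))
  rw [card_cent_spl hs] at this
  exact congrArg Subtype.val this

theorem self_mem_cent (g : SLT F) : g ∈ Subgroup.centralizer ({g} : Set (SLT F)) :=
  mem_cent_sl.2 rfl

theorem pow_of_ell [Fintype F] {g : SLT F} (hg : Ell g.1.trace 1) :
    g ^ (Fintype.card F + 1) = 1 := pow_of_mem_cent_ell hg (self_mem_cent g)

theorem pow_of_spl [Fintype F] {g : SLT F} (hg : Spl g.1.trace 1) :
    g ^ (Fintype.card F - 1) = 1 := pow_of_mem_cent_spl hg (self_mem_cent g)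

theorem exists_ell [Finite F] : ∃ t : F, Ell t 1 := by
  classical
  cases nonempty_fintype F
  have : ¬ Function.Surjective (fun a : Fˣ => (a : F) + (a : F)⁻¹) := by
    intro h
    have := Fintype.card_le_of_surjective _ h
    rw [Fintype.card_units] at this
    have := Fintype.card_pos (α := F)
    omega
  simp only [Function.Surjective, not_forall, not_exists] at this
  obtain ⟨t, ht⟩ := this
  refine ⟨t, fun r hr => ?_⟩
  have hr0 : r ≠ 0 := by rintro rfl; simp at hr
  apply ht (Units.mk0 r hr0)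
  simp only [Units.val_mk0]
  field_simp
  linear_combination hr

theorem neg_one_mem_cent (g : SLT F) : (-1 : SLT F) ∈ Subgroup.centralizer ({g} : Set (SLT F)) :=
  mem_cent_sl.2 (by simp)

theorem center_le_cent (g : SLT F) :
    Subgroup.center (SLT F) ≤ Subgroup.centralizer ({g} : Set (SLT F)) :=
  Subgroup.center_le_centralizer _

/-- Non-central elements of the centraliser of a non-central element have the same centraliser. -/
theorem cent_eq_of_mem {s g : SLT F} (hs : ¬ IsScal s.1) (hg : ¬ IsScal g.1)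
    (h : g ∈ Subgroup.centralizer ({s} : Set (SLT F))) :
    Subgroup.centralizer ({g} : Set (SLT F)) = Subgroup.centralizer ({s} : Set (SLT F)) := by
  rw [mem_cent_sl] at h
  ext x
  rw [mem_cent_sl, mem_cent_sl]
  exact ⟨fun e => comm_of_comm hg e h.symm, fun e => comm_of_comm hs e h⟩

theorem cent_comm {s g h : SLT F} (hs : ¬ IsScal s.1)
    (hg : g ∈ Subgroup.centralizer ({s} : Set (SLT F)))
    (hh : h ∈ Subgroup.centralizer ({s} : Set (SLT F))) : g * h = h * g :=
  sl_ext (comm_of_comm hs (mem_cent_sl.1 hg) (mem_cent_sl.1 hh))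

/-- The discriminant of an element commuting with `s`. -/
theorem disc_of_mem_cent {s g : SLT F} (hs : ¬ IsScal s.1) (hg : ¬ IsScal g.1)
    (h : g ∈ Subgroup.centralizer ({s} : Set (SLT F))) :
    ∃ b : F, b ≠ 0 ∧ g.1.trace ^ 2 - 4 = b ^ 2 * (s.1.trace ^ 2 - 4) := by
  obtain ⟨a, b, e⟩ := exists_of_comm hs (mem_cent_sl.1 h)
  have hd := g.2
  refine ⟨b, fun hb => hg (by rw [e]; exact (isScal_comb hs a b).2 hb), ?_⟩
  rw [e, det_comb, s.2] at hd
  rw [e, trace_comb]
  linear_combination 4 * hd

theorem semisimple_of_mem_cent {s g : SLT F} (hs : s.1.trace ^ 2 ≠ 4) (hg : ¬ IsScal g.1)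
    (h : g ∈ Subgroup.centralizer ({s} : Set (SLT F))) : g.1.trace ^ 2 ≠ 4 := by
  obtain ⟨b, hb, e⟩ := disc_of_mem_cent (sl_not_isScal_of_disc hs) hg h
  intro e'
  rw [e', sub_self] at e
  exact mul_ne_zero (pow_ne_zero 2 hb) (sub_ne_zero.2 hs) e.symm

theorem ell_of_mem_cent {s g : SLT F} (hs : Ell s.1.trace 1) (hg : ¬ IsScal g.1)
    (h : g ∈ Subgroup.centralizer ({s} : Set (SLT F))) : Ell g.1.trace 1 := by
  have hs' := sl_not_isScal_of_disc hs.disc_one
  obtain ⟨a, b, e⟩ := exists_of_comm hs' (mem_cent_sl.1 h)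
  have hb : b ≠ 0 := fun hb => hg (by rw [e]; exact (isScal_comb hs' a b).2 hb)
  have hd := g.2
  rw [e, det_comb, s.2] at hd
  rw [e, trace_comb]
  intro r hr
  apply hs ((r - a) / b)
  field_simp
  linear_combination hr + hd

theorem spl_of_mem_cent {s g : SLT F} (hs : Spl s.1.trace 1) (hg : ¬ IsScal g.1)
    (h : g ∈ Subgroup.centralizer ({s} : Set (SLT F))) : Spl g.1.trace 1 := by
  rcases ell_or_spl_one (semisimple_of_mem_cent hs.disc_one hg h) with e | e
  · exact absurd (ell_of_mem_cent e (sl_not_isScal_of_disc hs.disc_one)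
      (mem_cent_sl.2 (mem_cent_sl.1 h).symm)) hs.not_ell
  · exact e

/-- An element of the centraliser of a semisimple `s` with the trace of `s` is `s` or `s⁻¹`. -/
theorem eq_or_eq_inv_of_mem_cent {s g : SLT F} (hs : s.1.trace ^ 2 ≠ 4)
    (h : g ∈ Subgroup.centralizer ({s} : Set (SLT F))) (ht : g.1.trace = s.1.trace) :
    g = s ∨ g = s⁻¹ := by
  have hs' := sl_not_isScal_of_disc hs
  obtain ⟨a, b, e⟩ := exists_of_comm hs' (mem_cent_sl.1 h)
  have hd := g.2
  rw [e, det_comb, s.2] at hd
  rw [e, trace_comb] at ht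
  have h4 := sub_ne_zero.2 hs
  have h1 : (a * (a - s.1.trace)) = 0 := by
    apply mul_left_cancel₀ h4
    linear_combination (-s.1.trace ^ 2) * hd +
      (s.1.trace * (b + 1) + a * (s.1.trace ^ 2 - 2)) * ht
  have h2 : b ^ 2 = 1 := by
    apply mul_left_cancel₀ h4
    linear_combination -4 * hd + (2 * a + b * s.1.trace + s.1.trace) * ht
  by_cases ht0 : s.1.trace = 0
  · have ha : a = 0 := by simpa [ht0] using h1
    rcases sq_eq_one_iff.1 h2 with hb | hb
    · left; apply sl_ext; rw [e, ha, hb]; simp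
    · right; apply sl_ext; rw [e, ha, hb, sl_inv_val', ht0]; simp
  · rcases mul_eq_zero.1 h1 with ha | ha
    · left
      have hb : b = 1 := by
        apply mul_right_cancel₀ ht0
        linear_combination ht - 2 * ha
      apply sl_ext; rw [e, ha, hb]; simp
    · right
      have hb : b = -1 := by
        apply mul_right_cancel₀ ht0
        linear_combination ht - 2 * ha
      apply sl_ext; rw [e, sub_eq_zero.1 ha, hb, sl_inv_val']; simp [sub_eq_add_neg]

/-! ### Class sizes -/

theorem card_carrier_eq_index {G : Type*} [Group G] (g : G) :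
    Nat.card (ConjClasses.mk g).carrier = (Subgroup.centralizer ({g} : Set G)).index := by
  have h := Subgroup.index_comap_of_surjective (MulAction.stabilizer (ConjAct G) g)
    (f := (ConjAct.toConjAct : G ≃* ConjAct G).toMonoidHom) ConjAct.toConjAct.surjective
  rw [MulAction.index_stabilizer, ConjAct.orbit_eq_carrier_conjClasses] at h
  rw [Nat.card_coe_set_eq, ← h, Subgroup.centralizer_eq_comap_stabilizer]
  rfl

theorem card_conjClasses_eq_of_invariant {G X : Type*} [Group G] (f : G → X)
    (hf : ∀ g h, f g = f h ↔ IsConj g h) : Nat.card (ConjClasses G) = Nat.card (Set.range f) := by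
  symm
  refine Nat.card_eq_of_bijective (fun x => ConjClasses.mk (Classical.choose x.2)) ⟨?_, ?_⟩
  · intro x y e
    have := (hf _ _).2 (ConjClasses.mk_eq_mk_iff_isConj.1 e)
    rw [Classical.choose_spec x.2, Classical.choose_spec y.2] at this
    exact Subtype.ext this
  · intro c
    obtain ⟨g, rfl⟩ := ConjClasses.exists_rep c
    refine ⟨⟨f g, g, rfl⟩, ConjClasses.mk_eq_mk_iff_isConj.2 ((hf _ _).1 ?_)⟩
    exact Classical.choose_spec (⟨g, rfl⟩ : f g ∈ Set.range f)

/-! ### The projective group -/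

/-- The quotient map onto `PSL₂`. -/
def pr : SLT F →* PSLT F := QuotientGroup.mk' _

theorem pr_surjective : Function.Surjective (pr : SLT F → PSLT F) := QuotientGroup.mk'_surjective _

theorem pr_ker : (pr : SLT F →* PSLT F).ker = Subgroup.center (SLT F) := QuotientGroup.ker_mk' _

theorem pr_eq_one_iff {g : SLT F} : pr g = 1 ↔ IsScal g.1 := by
  rw [← MonoidHom.mem_ker, pr_ker, sl_mem_center_iff]

theorem pr_eq_one_iff' {g : SLT F} : pr g = 1 ↔ g = 1 ∨ g = -1 := by
  rw [pr_eq_one_iff, sl_isScal_iff]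

theorem pr_eq_iff {g h : SLT F} : pr g = pr h ↔ g = h ∨ g = -h := by
  rw [← mul_inv_eq_one, ← map_inv, ← map_mul, pr_eq_one_iff', mul_inv_eq_one,
    mul_inv_eq_iff_eq_mul, neg_one_mul]

@[simp] theorem pr_neg (g : SLT F) : pr (-g) = pr g := pr_eq_iff.2 (Or.inr rfl)

theorem card_center_odd (h2 : (2 : F) ≠ 0) : Nat.card (Subgroup.center (SLT F)) = 2 := by
  have : (Subgroup.center (SLT F) : Set (SLT F)) = {1, -1} := by
    ext g; simp [sl_mem_center_iff']
  change Nat.card (Subgroup.center (SLT F) : Set (SLT F)) = 2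
  rw [this, Nat.card_coe_set_eq, Set.ncard_pair (sl_neg_ne_self h2 1).symm]

theorem center_eq_bot (h2 : (2 : F) = 0) : Subgroup.center (SLT F) = ⊥ := by
  ext g; simp [sl_mem_center_iff', sl_neg_eq_self h2]

theorem pr_injective (h2 : (2 : F) = 0) : Function.Injective (pr : SLT F → PSLT F) := by
  rw [← MonoidHom.ker_eq_bot_iff, pr_ker, center_eq_bot h2]

theorem card_center [Fintype F] :
    Nat.card (Subgroup.center (SLT F)) = Nat.gcd 2 (Fintype.card F - 1) := by
  have hq : 1 < Fintype.card F := Fintype.one_lt_card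
  by_cases h2 : (2 : F) = 0
  · rw [center_eq_bot h2, Subgroup.card_bot]
    have := even_of_two_eq_zero h2
    symm
    rw [← Nat.coprime_iff_gcd_eq_one, Nat.prime_two.coprime_iff_not_dvd]
    omega
  · rw [card_center_odd h2]
    have := odd_of_two_ne_zero h2
    rw [Nat.odd_iff] at this
    symm
    apply Nat.gcd_eq_left
    omega

/-- The image in `PSL₂` of a subgroup containing the centre. -/
theorem card_map_pr {H : Subgroup (SLT F)} (hH : Subgroup.center (SLT F) ≤ H) :
    Nat.card (H.map pr) * Nat.card (Subgroup.center (SLT F)) = Nat.card H := by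
  have h1 := Subgroup.card_mul_index (pr.comp H.subtype).ker
  rw [Subgroup.index_ker] at h1
  have h2 : (pr.comp H.subtype).range = H.map pr := by
    rw [MonoidHom.range_comp, Subgroup.range_subtype]
  have h3 : (pr.comp H.subtype).ker = (Subgroup.center (SLT F)).subgroupOf H := by
    rw [← MonoidHom.comap_ker, pr_ker]; rfl
  rw [h2, h3, Nat.card_congr (Subgroup.subgroupOfEquivOfLe hH).toEquiv] at h1
  rw [mul_comm, h1]

theorem card_psl_mul : Nat.card (PSLT F) * Nat.card (Subgroup.center (SLT F)) = Nat.card (SLT F) := by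
  rw [← Subgroup.card_eq_card_quotient_mul_card_subgroup]

theorem trace_zero_iff_sq {g : SLT F} (hg : ¬ IsScal g.1) : g.1.trace = 0 ↔ g * g = -1 := by
  constructor
  · intro h
    apply sl_ext
    rw [sl_mul_val, sl_cayley, h]; simp
  · intro h
    have e := congrArg Subtype.val h
    rw [sl_mul_val, sl_cayley] at e
    have : (0 : F) • (1 : M2 F) + g.1.trace • g.1 = (0 : F) • (1 : M2 F) + (0 : F) • g.1 := by
      simp only [zero_smul, zero_add]
      rw [← sub_add_cancel (g.1.trace • g.1) 1, e]; simp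
    exact (coeff_unique hg this).2

theorem sq_eq_neg_one_of_trace {g : SLT F} (h : g.1.trace = 0) : g * g = -1 := by
  apply sl_ext
  rw [sl_mul_val, sl_cayley, h]; simp

theorem isScal_of_sq_eq_one (h2 : (2 : F) ≠ 0) {g : SLT F} (h : g * g = 1) : IsScal g.1 := by
  by_contra hg
  have e := congrArg Subtype.val h
  rw [sl_mul_val, sl_cayley] at e
  have : (0 : F) • (1 : M2 F) + g.1.trace • g.1 = (2 : F) • (1 : M2 F) + (0 : F) • g.1 := by
    simp only [zero_smul, zero_add, add_zero]
    rw [← sub_add_cancel (g.1.trace • g.1) 1, e, two_smul]; simp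
  exact h2 (coeff_unique hg this).1.symm

/-- The square of a non-central element is central iff its trace vanishes. -/
theorem isScal_sq_iff {g : SLT F} (hg : ¬ IsScal g.1) : IsScal (g * g).1 ↔ g.1.trace = 0 := by
  rw [sl_mul_val, cayley, isScal_comb hg]

end Cfsg.Agent.SL2
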