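import Cfsg.Agent.SL2.Norm

/-!
Generators of the tori of SL₂(q), orders of elements of PSL₂(q).
-/

set_option autoImplicit false

open Matrix

namespace Cfsg.Agent.SL2

variable {F : Type*} [Field F]

theorem exists_norm_trace_of_ell [Finite F] {t d τ δ : F} (h : Ell t d) (h' : Ell τ δ) :
    ∃ a b : F, 2 * a + b * t = τ ∧ a ^ 2 + t * a * b + d * b ^ 2 = δ := by
  have : Fact (∀ r : F, r ^ 2 ≠ -d + t * r) := ⟨h⟩
  have : Fact (∀ r : F, r ^ 2 ≠ -δ + τ * r) := ⟨h'⟩
  have : Finite (QA t d) := Finite.of_equiv _ (QuadraticAlgebra.equivProd _ _).symm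
  obtain ⟨φ⟩ := FiniteField.nonempty_algHom_of_finrank_dvd (F := F) (K := QA τ δ) (L := QA t d)
    (by rw [QuadraticAlgebra.finrank_eq_two, QuadraticAlgebra.finrank_eq_two])
  have e := congrArg φ (QuadraticAlgebra.omega_mul_omega_eq_add (R := F) (a := -δ) (b := τ))
  rw [map_mul, map_add, map_smul, map_smul, map_one] at e
  generalize φ QuadraticAlgebra.omega = z at e
  obtain ⟨a, b⟩ := z
  have e1 := congrArg QuadraticAlgebra.re e
  have e2 := congrArg QuadraticAlgebra.im e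
  simp [QuadraticAlgebra.re_one, QuadraticAlgebra.im_one] at e1 e2
  have hb : b ≠ 0 := by
    rintro rfl
    exact h' a (by linear_combination e1)
  have e3 : 2 * a + b * t = τ := by
    apply mul_left_cancel₀ hb
    linear_combination e2
  exact ⟨a, b, e3, by linear_combination -e1 + a * e3⟩

theorem exists_mem_cen_ell_trace [Finite F] {s : SLT F} {τ : F} (hs : Ell s.1.trace 1)
    (h : Ell τ 1) : ∃ x ∈ Cen s, x.1.trace = τ := by
  obtain ⟨a, b, h1, h2⟩ := exists_norm_trace_of_ell hs h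
  exact ⟨mkSL (a • (1 : M2 F) + b • s.1) (by rw [det_comb, s.2, h2]),
    mem_cent_sl.2 (comm_of_eq _ _), by rw [mkSL_val, trace_comb, h1]⟩

theorem exists_mem_cen_spl_trace {s : SLT F} {τ : F} (hs : Spl s.1.trace 1)
    (h : Spl τ 1) : ∃ x ∈ Cen s, x.1.trace = τ := by
  obtain ⟨a, b, hab, h1, h2⟩ := hs
  obtain ⟨u, v, -, h3, h4⟩ := h
  have hab' : a - b ≠ 0 := sub_ne_zero.2 hab
  refine ⟨mkSL ((u - a * ((u - v) / (a - b))) • (1 : M2 F) + ((u - v) / (a - b)) • s.1) ?_,
    mem_cent_sl.2 (comm_of_eq _ _), ?_⟩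
  · rw [det_comb, s.2, ← h1]
    field_simp
    linear_combination (-(u - v) ^ 2) * h2 + (a - b) ^ 2 * h4
  · rw [mkSL_val, trace_comb, ← h1, ← h3]
    field_simp
    ring

theorem exists_generator_cen [Finite F] {s : SLT F} (hs : s.1.trace ^ 2 ≠ 4) :
    ∃ g ∈ Cen s, orderOf g = Nat.card (Cen s) ∧ Subgroup.zpowers g = Cen s := by
  have := isCyclic_cent hs
  obtain ⟨g, hg⟩ := IsCyclic.exists_generator (α := Cen s)
  refine ⟨g, g.2, ?_, ?_⟩
  · rw [Subgroup.orderOf_coe, orderOf_eq_card_of_forall_mem_zpowers hg]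
  · apply le_antisymm ((Subgroup.zpowers_le).2 g.2)
    intro x hx
    obtain ⟨k, hk⟩ := Subgroup.mem_zpowers_iff.1 (hg ⟨x, hx⟩)
    exact Subgroup.mem_zpowers_iff.2 ⟨k, congrArg Subtype.val hk⟩

theorem sq_eq_one_of_isScal {g : SLT F} (h : IsScal g.1) : g ^ 2 = 1 := by
  rcases sl_isScal_iff.1 h with rfl | rfl <;> simp

theorem not_isScal_of_orderOf {g : SLT F} (h : 2 < orderOf g) : ¬ IsScal g.1 := fun e => by
  have := orderOf_le_of_pow_eq_one two_pos (sq_eq_one_of_isScal e)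
  omega

theorem pow_four_of_trace_zero {g : SLT F} (h : g.1.trace = 0) : g ^ 4 = 1 := by
  rw [show 4 = 2 * 2 from rfl, pow_mul, sq g, sq_eq_neg_one_of_trace h]; simp

theorem trace_ne_zero_of_orderOf {g : SLT F} (h : 4 < orderOf g) : g.1.trace ≠ 0 := fun e => by
  have := orderOf_le_of_pow_eq_one (by norm_num) (pow_four_of_trace_zero e)
  omega

theorem exists_ell_generator [Fintype F] :
    ∃ g : SLT F, Ell g.1.trace 1 ∧ orderOf g = Fintype.card F + 1 := by
  obtain ⟨t, ht⟩ := exists_ell (F := F)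
  have hell : Ell (cmp t).1.trace 1 := by rwa [trace_cmp]
  obtain ⟨g, hg, ho, -⟩ := exists_generator_cen hell.disc_one
  rw [card_cent_ell hell] at ho
  have hq : 1 < Fintype.card F := Fintype.one_lt_card
  exact ⟨g, ell_of_mem_cent hell (not_isScal_of_orderOf (by omega)) hg, ho⟩

theorem orderOf_dg (a : Fˣ) : orderOf (dg a) = orderOf a :=
  orderOf_injective dgHom dg_injective a

theorem exists_unit_generator [Fintype F] : ∃ a : Fˣ, orderOf a = Fintype.card F - 1 := by
  obtain ⟨a, ha⟩ := IsCyclic.exists_generator (α := Fˣ)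
  exact ⟨a, by rw [orderOf_eq_card_of_forall_mem_zpowers ha, Nat.card_units,
    Nat.card_eq_fintype_card]⟩

theorem exists_spl_generator [Fintype F] (h4 : 4 ≤ Fintype.card F) :
    ∃ g : SLT F, Spl g.1.trace 1 ∧ orderOf g = Fintype.card F - 1 := by
  obtain ⟨a, ha⟩ := exists_unit_generator (F := F)
  refine ⟨dg a, spl_dg fun e => ?_, by rw [orderOf_dg, ha]⟩
  have := orderOf_le_of_pow_eq_one two_pos (show a ^ 2 = 1 from Units.ext (by simpa using e))
  omega

/-- The image of a torus in `PSL₂` is cyclic of the expected order. -/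
theorem card_map_cen [Fintype F] (s : SLT F) :
    Nat.card ((Cen s).map pr) = Nat.card (Cen s) / Nat.gcd 2 (Fintype.card F - 1) := by
  rw [← card_map_pr (center_le_cent s), card_center, Nat.mul_div_cancel]
  exact Nat.gcd_pos_of_pos_left _ two_pos

theorem orderOf_pr_generator [Fintype F] {s g : SLT F} (hg : Subgroup.zpowers g = Cen s) :
    orderOf (pr g) = Nat.card (Cen s) / Nat.gcd 2 (Fintype.card F - 1) := by
  rw [← card_map_cen, ← hg, MonoidHom.map_zpowers, Nat.card_zpowers]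

theorem orderOf_pr_dvd_of_mem_cen [Fintype F] {s g : SLT F} (hg : g ∈ Cen s) :
    orderOf (pr g) ∣ Nat.card (Cen s) / Nat.gcd 2 (Fintype.card F - 1) := by
  rw [← card_map_cen]
  exact Subgroup.orderOf_dvd_natCard _ (Subgroup.mem_map_of_mem pr hg)

theorem orderOf_pr_of_par (p : ℕ) [CharP F p] {g : SLT F} (hg : g.1.trace ^ 2 = 4) :
    orderOf (pr g) ∣ p := by
  rcases trace_eq_of_disc hg with h | h
  · exact orderOf_pr_dvd_iff.2 (Or.inl (sl_pow_char_of_trace_two p h))
  · rw [← pr_neg]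
    exact orderOf_pr_dvd_iff.2 (Or.inl (sl_pow_char_of_trace_two p (by simp [h])))

theorem orderOf_pr_cases [Fintype F] (p : ℕ) [CharP F p] (x : PSLT F) :
    orderOf x ∣ p ∨ orderOf x ∣ (Fintype.card F - 1) / Nat.gcd 2 (Fintype.card F - 1) ∨
      orderOf x ∣ (Fintype.card F + 1) / Nat.gcd 2 (Fintype.card F - 1) := by
  obtain ⟨g, rfl⟩ := pr_surjective x
  by_cases hg : g.1.trace ^ 2 = 4
  · exact Or.inl (orderOf_pr_of_par p hg)
  · right
    rcases ell_or_spl_one hg with h | h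
    · right; rw [← card_cent_ell h]; exact orderOf_pr_dvd_of_mem_cen (self_mem_cent g)
    · left
      have := orderOf_pr_dvd_of_mem_cen (self_mem_cent g)
      rwa [card_cent_spl h] at this

theorem exists_orderOf_of_dvd {G : Type*} [Group G] [Finite G] (g : G) {m : ℕ} (h : m ∣ orderOf g) :
    ∃ x : G, orderOf x = m :=
  ⟨g ^ (orderOf g / m), orderOf_pow_orderOf_div (orderOf_pos g).ne' h⟩

theorem not_char_dvd_card_add_one [Fintype F] (p : ℕ) [Fact p.Prime] [CharP F p] :
    ¬ p ∣ Fintype.card F + 1 := by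
  rw [← CharP.cast_eq_zero_iff F p]
  simp

theorem not_char_dvd_card_sub_one [Fintype F] (p : ℕ) [Fact p.Prime] [CharP F p] :
    ¬ p ∣ Fintype.card F - 1 := by
  rw [← CharP.cast_eq_zero_iff F p, Nat.cast_sub Fintype.card_pos]
  simp

theorem orderOf_pr_eq_two_iff {g : SLT F} (hg : ¬ IsScal g.1) :
    orderOf (pr g) = 2 ↔ g.1.trace = 0 := by
  rw [← isScal_sq_iff hg, ← pr_eq_one_iff, map_mul, ← sq]
  constructor
  · intro h; exact orderOf_dvd_iff_pow_eq_one.1 h.dvd
  · intro h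
    exact orderOf_eq_prime h (fun e => hg (pr_eq_one_iff.1 e))

end Cfsg.Agent.SL2
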