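import Cfsg.Agent.SL2.More

/-!
Class sizes in SL₂(q) and PSL₂(q).
-/

set_option autoImplicit false

open Matrix

namespace Cfsg.Agent.SL2

variable {F : Type*} [Field F]

theorem sq_sub_one_eq (q : ℕ) : q ^ 2 - 1 = (q + 1) * (q - 1) := by
  have := Nat.sq_sub_sq q 1
  simpa using this

theorem index_cen_ell [Fintype F] {g : SLT F} (hg : Ell g.1.trace 1) :
    (Cen g).index = Fintype.card F * (Fintype.card F - 1) := by
  have h := Subgroup.card_mul_index (Cen g)
  rw [card_cent_ell hg, card_sl, sq_sub_one_eq] at h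
  apply Nat.eq_of_mul_eq_mul_left (Nat.succ_pos (Fintype.card F))
  rw [Nat.succ_eq_add_one, h]; ring

theorem index_cen_spl [Fintype F] {g : SLT F} (hg : Spl g.1.trace 1) :
    (Cen g).index = Fintype.card F * (Fintype.card F + 1) := by
  have h := Subgroup.card_mul_index (Cen g)
  rw [card_cent_spl hg, card_sl, sq_sub_one_eq] at h
  have hq : 1 < Fintype.card F := Fintype.one_lt_card
  apply Nat.eq_of_mul_eq_mul_left (show 0 < Fintype.card F - 1 by omega)
  rw [h]; ring

theorem index_cen_par_odd [Fintype F] (h2 : (2 : F) ≠ 0) {g : SLT F} (hs : ¬ IsScal g.1)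
    (hg : g.1.trace ^ 2 = 4) : (Cen g).index = (Fintype.card F ^ 2 - 1) / 2 := by
  have h := Subgroup.card_mul_index (Cen g)
  rw [card_cent_par_odd h2 hs hg, card_sl, mul_comm 2, mul_assoc] at h
  have := Nat.eq_of_mul_eq_mul_left Fintype.card_pos h
  omega

theorem index_cen_par_even [Fintype F] (h2 : (2 : F) = 0) {g : SLT F} (hs : ¬ IsScal g.1)
    (hg : g.1.trace ^ 2 = 4) : (Cen g).index = Fintype.card F ^ 2 - 1 := by
  have h := Subgroup.card_mul_index (Cen g)
  rw [card_cent_par_even h2 hs hg, card_sl] at h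
  exact Nat.eq_of_mul_eq_mul_left Fintype.card_pos h

theorem index_ncen [Finite F] {s : SLT F} (hs : s.1.trace ^ 2 ≠ 4) :
    (NCen s).index = (Cen s).index / 2 := by
  have := Subgroup.relIndex_mul_index (cen_le_ncen s)
  rw [Subgroup.relIndex, index_cen_ncen hs] at this
  omega

theorem two_mul_index_ncen [Finite F] {s : SLT F} (hs : s.1.trace ^ 2 ≠ 4) :
    2 * (NCen s).index = (Cen s).index := by
  have := Subgroup.relIndex_mul_index (cen_le_ncen s)
  rwa [Subgroup.relIndex, index_cen_ncen hs] at this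

theorem index_cent_pr_of_isScal {g : SLT F} (hg : IsScal g.1) :
    (Subgroup.centralizer ({pr g} : Set (PSLT F))).index = 1 := by
  rw [pr_eq_one_iff.2 hg, Subgroup.index_eq_one, eq_top_iff]
  intro x _
  simp [Subgroup.mem_centralizer_iff]

theorem index_cent_pr_of_trace_ne {g : SLT F} (h : g.1.trace ≠ 0 ∨ (2 : F) = 0) :
    (Subgroup.centralizer ({pr g} : Set (PSLT F))).index = (Cen g).index := by
  rw [index_cent_pr, comap_cent_pr_of_trace_ne h]

theorem index_cent_pr_of_trace_zero [Finite F] (h2 : (2 : F) ≠ 0) {g : SLT F} (h : g.1.trace = 0) :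
    (Subgroup.centralizer ({pr g} : Set (PSLT F))).index = (Cen g).index / 2 := by
  rw [index_cent_pr, comap_cent_pr_of_trace_zero h2 h, index_ncen (disc_of_trace_zero h2 h)]

end Cfsg.Agent.SL2
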