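import Cfsg.Agent.SL2.Index

/-!
Quaternion subgroups of SL₂ and their normalisers.
-/

set_option autoImplicit false

open Matrix

namespace Cfsg.Agent.SL2

variable {F : Type*} [Field F]

/-- `s` and `w` generate a quaternion group of order eight. -/
structure QPair (s w : SLT F) : Prop where
  two : (2 : F) ≠ 0
  ts : s.1.trace = 0
  inv : w * s * w⁻¹ = s⁻¹

/-- The subgroup generated by a pair. -/
def q8 (s w : SLT F) : Subgroup (SLT F) := Subgroup.closure {s, w}

theorem left_mem_q8 (s w : SLT F) : s ∈ q8 s w := Subgroup.subset_closure (by simp)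
theorem right_mem_q8 (s w : SLT F) : w ∈ q8 s w := Subgroup.subset_closure (by simp)

theorem pow_two_pow_cases (hns : ¬ IsSquare (2 : F)) {s : SLT F} (hs : s.1.trace = 0) {k : ℕ}
    {y : SLT F} (hy : y ∈ Cen s) (h : y ^ 2 ^ k = 1) : y = 1 ∨ y = -1 ∨ y = s ∨ y = -s := by
  have h2 : (2 : F) ≠ 0 := fun e => hns (by rw [e]; exact IsSquare.zero)
  have hd := disc_of_trace_zero h2 hs
  have hs' := sl_not_isScal_of_disc hd
  induction k generalizing y with
  | zero => left; simpa using h
  | succ k ih =>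
    have h1 := ih (y := y ^ 2) (pow_mem hy 2) (by rw [← pow_mul, ← pow_succ', h])
    by_cases hy1 : IsScal y.1
    · rcases sl_isScal_iff.1 hy1 with e | e
      · exact Or.inl e
      · exact Or.inr (Or.inl e)
    right; right
    by_cases hy2 : IsScal (y * y).1
    · have := eq_or_eq_inv_of_mem_cent hd hy (((isScal_sq_iff hy1).1 hy2).trans hs.symm)
      rwa [inv_eq_neg_of_trace hs] at this
    · exfalso
      rw [sl_isScal_iff, ← sq] at hy2
      have ht : (y * y).1.trace = 0 := by
        rw [← sq]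
        rcases h1 with e | e | e | e
        · exact absurd (Or.inl e) hy2
        · exact absurd (Or.inr e) hy2
        · rw [e, hs]
        · rw [e, sl_trace_neg, hs, neg_zero]
      rw [sl_mul_val, sl_cayley, trace_sub, trace_smul, trace_one] at ht
      exact hns ⟨y.1.trace, by simp at ht; linear_combination -ht⟩

namespace QPair

variable {s w : SLT F}

theorem disc (h : QPair s w) : s.1.trace ^ 2 ≠ 4 := disc_of_trace_zero h.two h.ts
theorem tw (h : QPair s w) : w.1.trace = 0 := trace_eq_zero_of_inverts h.disc h.inv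
theorem ss (h : QPair s w) : s * s = -1 := sq_eq_neg_one_of_trace h.ts
theorem ww (h : QPair s w) : w * w = -1 := sq_eq_neg_one_of_trace h.tw
theorem si (h : QPair s w) : s⁻¹ = -s := inv_eq_neg_of_trace h.ts
theorem wi (h : QPair s w) : w⁻¹ = -w := inv_eq_neg_of_trace h.tw
theorem ws (h : QPair s w) : w * s = -(s * w) := by
  have := h.inv
  rwa [mul_inv_eq_iff_eq_mul, h.si, neg_mul] at this
theorem ssw (h : QPair s w) : s * (s * w) = -w := by rw [← mul_assoc, h.ss, neg_one_mul]
theorem wsw (h : QPair s w) : w * (s * w) = s := by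
  rw [← mul_assoc, h.ws, neg_mul, mul_assoc, h.ww]; simp
theorem sws (h : QPair s w) : s * w * s = w := by rw [mul_assoc, h.ws, mul_neg, h.ssw, neg_neg]
theorem sww (h : QPair s w) : s * w * w = -s := by rw [mul_assoc, h.ww]; simp
theorem swsw (h : QPair s w) : s * w * (s * w) = -1 := by rw [← mul_assoc, h.sws, h.ww]
theorem sw_inv (h : QPair s w) : (s * w) * s * (s * w)⁻¹ = s⁻¹ :=
  mul_inverts_of_mem_cen h.inv (self_mem_cent s)
theorem tsw (h : QPair s w) : (s * w).1.trace = 0 := trace_eq_zero_of_inverts h.disc h.sw_inv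

theorem neg_one_mem (h : QPair s w) : (-1 : SLT F) ∈ q8 s w := by
  rw [← h.ss]; exact mul_mem (left_mem_q8 s w) (left_mem_q8 s w)

theorem neg_mem (h : QPair s w) {x : SLT F} (hx : x ∈ q8 s w) : -x ∈ q8 s w := by
  rw [← neg_one_mul]; exact mul_mem h.neg_one_mem hx

theorem mem_iff (h : QPair s w) {x : SLT F} : x ∈ q8 s w ↔
    x = 1 ∨ x = -1 ∨ x = s ∨ x = -s ∨ x = w ∨ x = -w ∨ x = s * w ∨ x = -(s * w) := by
  constructor
  · intro hx
    induction hx using Subgroup.closure_induction_left with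
    | one => simp
    | mul_left x hx y _ ih =>
      rcases hx with rfl | rfl <;> rcases ih with e | e | e | e | e | e | e | e <;>
        simp [e, h.ss, h.ww, h.ws, h.ssw, h.wsw]
    | inv_mul_cancel x hx y _ ih =>
      rcases hx with rfl | rfl <;> rcases ih with e | e | e | e | e | e | e | e <;>
        simp [e, h.ss, h.ww, h.ws, h.ssw, h.wsw, h.si, h.wi]
  · have h1 := left_mem_q8 s w
    have h2 := right_mem_q8 s w
    rintro (e | e | e | e | e | e | e | e) <;> rw [e]
    · exact one_mem _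
    · exact h.neg_one_mem
    · exact h1
    · exact h.neg_mem h1
    · exact h2
    · exact h.neg_mem h2
    · exact mul_mem h1 h2
    · exact h.neg_mem (mul_mem h1 h2)

theorem le_ncen (h : QPair s w) : q8 s w ≤ NCen s := by
  rw [q8, Subgroup.closure_le]
  rintro _ (rfl | rfl)
  · exact cen_le_ncen _ (self_mem_cent _)
  · exact (mem_ncen_iff h.disc).2 (Or.inr h.inv)

theorem pow_four (h : QPair s w) {x : SLT F} (hx : x ∈ q8 s w) : x ^ 4 = 1 := by
  have e4 : ∀ y : SLT F, (-y) ^ 4 = y ^ 4 := fun y => Even.neg_pow (by decide) y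
  rcases h.mem_iff.1 hx with e | e | e | e | e | e | e | e <;>
    simp [e, e4, pow_four_of_trace_zero h.ts, pow_four_of_trace_zero h.tw,
      pow_four_of_trace_zero h.tsw]

theorem trace_cases (h : QPair s w) {x : SLT F} (hx : x ∈ q8 s w) : IsScal x.1 ∨ x.1.trace = 0 := by
  rcases h.mem_iff.1 hx with e | e | e | e | e | e | e | e
  · exact Or.inl (sl_isScal_iff.2 (Or.inl e))
  · exact Or.inl (sl_isScal_iff.2 (Or.inr e))
  all_goals right; rw [e]
  · exact h.ts
  · rw [sl_trace_neg, h.ts, neg_zero]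
  · exact h.tw
  · rw [sl_trace_neg, h.tw, neg_zero]
  · exact h.tsw
  · rw [sl_trace_neg, h.tsw, neg_zero]

/-- The matrix `(-1 + s + w + s w) / 2`. -/
def omM (s w : SLT F) : M2 F := (2 : F)⁻¹ • (-1 + s.1 + w.1 + s.1 * w.1)

theorem trace_omM (h : QPair s w) : (omM s w).trace = -1 := by
  have := h.tsw
  rw [sl_mul_val] at this
  have h2 := h.two
  simp only [omM, trace_smul, trace_add, h.ts, h.tw, this, trace_neg, trace_one, Fintype.card_fin,
    smul_eq_mul]
  field_simp
  norm_num

theorem omM_sq (h : QPair s w) : omM s w * omM s w = -omM s w - 1 := by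
  have e1 : s.1 * s.1 = -1 := congrArg Subtype.val h.ss
  have e2 : w.1 * w.1 = -1 := congrArg Subtype.val h.ww
  have e3 : w.1 * s.1 = -(s.1 * w.1) := congrArg Subtype.val h.ws
  have e4 : s.1 * (s.1 * w.1) = -w.1 := congrArg Subtype.val h.ssw
  have e5 : w.1 * (s.1 * w.1) = s.1 := congrArg Subtype.val h.wsw
  have e6 : s.1 * w.1 * s.1 = w.1 := congrArg Subtype.val h.sws
  have e7 : s.1 * w.1 * w.1 = -s.1 := congrArg Subtype.val h.sww
  have e8 : s.1 * w.1 * (s.1 * w.1) = -1 := congrArg Subtype.val h.swsw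
  have h2 := h.two
  simp only [omM, smul_mul_assoc, mul_smul_comm, add_mul, mul_add, neg_mul, mul_neg, one_mul, mul_one,
    e1, e2, e3, e4, e5, e6, e7, e8]
  match_scalars <;> field_simp <;> ring

theorem det_omM (h : QPair s w) : (omM s w).det = 1 := by
  have e := cayley (omM s w)
  rw [h.omM_sq, h.trace_omM] at e
  have := congrArg (fun m : M2 F => m 0 0) e
  simp at this
  linear_combination this

/-- An element of order three normalising the quaternion group. -/
def om (h : QPair s w) : SLT F := mkSL (omM s w) h.det_omM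

theorem om_s (h : QPair s w) : h.om * s * h.om⁻¹ = s * w := by
  have e1 : s.1 * s.1 = -1 := congrArg Subtype.val h.ss
  have e3 : w.1 * s.1 = -(s.1 * w.1) := congrArg Subtype.val h.ws
  have e6 : s.1 * w.1 * s.1 = w.1 := congrArg Subtype.val h.sws
  have e7 : s.1 * w.1 * w.1 = -s.1 := congrArg Subtype.val h.sww
  have e8 : s.1 * w.1 * (s.1 * w.1) = -1 := congrArg Subtype.val h.swsw
  rw [mul_inv_eq_iff_eq_mul]
  apply sl_ext
  simp only [sl_mul_val, om, mkSL_val, omM, smul_mul_assoc, mul_smul_comm, add_mul, mul_add, neg_mul,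
    mul_neg, one_mul, mul_one, e1, e3, e6, e7, e8]
  module

theorem om_w (h : QPair s w) : h.om * w * h.om⁻¹ = s := by
  have e1 : s.1 * s.1 = -1 := congrArg Subtype.val h.ss
  have e2 : w.1 * w.1 = -1 := congrArg Subtype.val h.ww
  have e4 : s.1 * (s.1 * w.1) = -w.1 := congrArg Subtype.val h.ssw
  have e7 : s.1 * w.1 * w.1 = -s.1 := congrArg Subtype.val h.sww
  rw [mul_inv_eq_iff_eq_mul]
  apply sl_ext
  simp only [sl_mul_val, om, mkSL_val, omM, smul_mul_assoc, mul_smul_comm, add_mul, mul_add, neg_mul,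
    mul_neg, one_mul, mul_one, e1, e2, e4, e7]
  module

theorem om_sw (h : QPair s w) : h.om * (s * w) * h.om⁻¹ = w := by
  calc h.om * (s * w) * h.om⁻¹ = (h.om * s * h.om⁻¹) * (h.om * w * h.om⁻¹) := by group
    _ = w := by rw [h.om_s, h.om_w, h.sws]

theorem om_cube (h : QPair s w) : h.om ^ 3 = 1 := by
  apply sl_ext
  have := h.omM_sq
  rw [sl_pow_val, pow_succ, sq]
  change omM s w * omM s w * omM s w = 1
  rw [this, sub_mul, neg_mul, this]
  simp

theorem om_conj_mem (h : QPair s w) {x : SLT F} (hx : x ∈ q8 s w) : h.om * x * h.om⁻¹ ∈ q8 s w := by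
  rw [h.mem_iff] at hx ⊢
  rcases hx with e | e | e | e | e | e | e | e <;> simp [e, h.om_s, h.om_w, h.om_sw]

theorem finite_q8 (h : QPair s w) : Finite (q8 s w) := by
  have : ((q8 s w : Subgroup (SLT F)) : Set (SLT F)) = {1, -1, s, -s, w, -w, s * w, -(s * w)} := by
    ext x; simp [h.mem_iff]
  change Finite ((q8 s w : Subgroup (SLT F)) : Set (SLT F))
  rw [this]; infer_instance

theorem om_mem_normalizer (h : QPair s w) :
    h.om ∈ Subgroup.normalizer ((q8 s w : Subgroup (SLT F)) : Set (SLT F)) :=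
  have : Finite ((q8 s w : Subgroup (SLT F)) : Set (SLT F)) := h.finite_q8
  Subgroup.mem_normalizer_fintype fun _ hx => h.om_conj_mem hx

theorem w_not_mem (h : QPair s w) : w ∉ Cen s := not_mem_cen_of_inverts h.disc h.inv
theorem sw_not_mem (h : QPair s w) : s * w ∉ Cen s := not_mem_cen_of_inverts h.disc h.sw_inv

theorem om_not_mem (h : QPair s w) : h.om ∉ NCen s := fun e =>
  h.sw_not_mem (h.om_s ▸ (Subgroup.mem_normalizer_iff.1 e s).1 (self_mem_cent s))

theorem om2_s (h : QPair s w) : h.om ^ 2 * s * (h.om ^ 2)⁻¹ = w := by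
  calc _ = h.om * (h.om * s * h.om⁻¹) * h.om⁻¹ := by rw [sq]; group
    _ = w := by rw [h.om_s, h.om_sw]

theorem om2_not_mem (h : QPair s w) : h.om ^ 2 ∉ NCen s := fun e =>
  h.w_not_mem (h.om2_s ▸ (Subgroup.mem_normalizer_iff.1 e s).1 (self_mem_cent s))

theorem mem_of_ncen (h : QPair s w) (hns : ¬ IsSquare (2 : F)) {g : SLT F}
    (hg : g ∈ Subgroup.normalizer ((q8 s w : Subgroup (SLT F)) : Set (SLT F))) (hg' : g ∈ NCen s) :
    g ∈ q8 s w := by
  have hs' := sl_not_isScal_of_disc h.disc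
  have key : ∀ g : SLT F, g ∈ Subgroup.normalizer ((q8 s w : Subgroup (SLT F)) : Set (SLT F)) →
      g ∈ Cen s → g ∈ q8 s w := by
    intro g hg hc
    have h1 : g * w * g⁻¹ * w⁻¹ ∈ q8 s w :=
      mul_mem ((Subgroup.mem_normalizer_iff.1 hg w).1 (right_mem_q8 s w)) (inv_mem (right_mem_q8 s w))
    have h2 : g * w * g⁻¹ * w⁻¹ = g ^ 2 := by
      have := inv_of_inverts hs' h.inv (inv_mem hc)
      rw [inv_inv] at this
      rw [sq]; nth_rewrite 4 [← this]; group
    rw [h2] at h1
    have h3 : g ^ 2 ^ 3 = 1 := by rw [← h.pow_four h1, ← pow_mul]; rfl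
    rw [h.mem_iff]
    have := pow_two_pow_cases hns h.ts hc h3
    tauto
  by_cases hc : g ∈ Cen s
  · exact key g hg hc
  · have := key (g * w) (mul_mem hg (Subgroup.le_normalizer (right_mem_q8 s w)))
      (mul_mem_cen_of_inverts h.inv (inverts_of_mem_ncen h.disc hg' hc))
    exact (Subgroup.mul_mem_cancel_right _ (right_mem_q8 s w)).1 this

theorem normalizer_cases (h : QPair s w) (hns : ¬ IsSquare (2 : F)) {g : SLT F}
    (hg : g ∈ Subgroup.normalizer ((q8 s w : Subgroup (SLT F)) : Set (SLT F))) :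
    g ∈ q8 s w ∨ h.om * g ∈ q8 s w ∨ h.om ^ 2 * g ∈ q8 s w := by
  have hs' := sl_not_isScal_of_disc h.disc
  have h1 := h.mem_iff.1 ((Subgroup.mem_normalizer_iff.1 hg s).1 (left_mem_q8 s w))
  have h0 : ¬ IsScal (g * s * g⁻¹).1 := fun e => hs' ((sl_isScal_conj g s).1 e)
  have c1 : h.om * g * s * (h.om * g)⁻¹ = h.om * (g * s * g⁻¹) * h.om⁻¹ := by group
  have c2 : h.om ^ 2 * g * s * (h.om ^ 2 * g)⁻¹ = h.om * (h.om * (g * s * g⁻¹) * h.om⁻¹) * h.om⁻¹ := by
    rw [sq]; group
  have n1 := mul_mem h.om_mem_normalizer hg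
  have n2 := mul_mem (pow_mem h.om_mem_normalizer 2) hg
  rcases h1 with e | e | e | e | e | e | e | e
  · exact absurd (sl_isScal_iff.2 (Or.inl e)) h0
  · exact absurd (sl_isScal_iff.2 (Or.inr e)) h0
  · exact Or.inl (h.mem_of_ncen hns hg ((mem_ncen_iff h.disc).2 (Or.inl e)))
  · exact Or.inl (h.mem_of_ncen hns hg ((mem_ncen_iff h.disc).2 (Or.inr (by rw [e, h.si]))))
  · exact Or.inr (Or.inl (h.mem_of_ncen hns n1 ((mem_ncen_iff h.disc).2
      (Or.inl (by rw [c1, e, h.om_w])))))
  · exact Or.inr (Or.inl (h.mem_of_ncen hns n1 ((mem_ncen_iff h.disc).2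
      (Or.inr (by rw [c1, e, mul_neg, neg_mul, h.om_w, h.si])))))
  · exact Or.inr (Or.inr (h.mem_of_ncen hns n2 ((mem_ncen_iff h.disc).2
      (Or.inl (by rw [c2, e, h.om_sw, h.om_w])))))
  · exact Or.inr (Or.inr (h.mem_of_ncen hns n2 ((mem_ncen_iff h.disc).2
      (Or.inr (by rw [c2, e, mul_neg, neg_mul, h.om_sw, mul_neg, neg_mul, h.om_w, h.si])))))

theorem card_normalizer (h : QPair s w) (hns : ¬ IsSquare (2 : F)) :
    Nat.card (Subgroup.normalizer ((q8 s w : Subgroup (SLT F)) : Set (SLT F))) =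
      3 * Nat.card (q8 s w) := by
  symm
  rw [← Nat.card_fin 3, ← Nat.card_prod]
  refine Nat.card_eq_of_bijective (fun p => ⟨h.om ^ (p.1 : ℕ) * p.2,
    mul_mem (pow_mem h.om_mem_normalizer _) (Subgroup.le_normalizer p.2.2)⟩) ⟨?_, ?_⟩
  · have n1 : h.om ∉ q8 s w := fun e => h.om_not_mem (h.le_ncen e)
    have n2 : h.om ^ 2 ∉ q8 s w := fun e => h.om2_not_mem (h.le_ncen e)
    have key : ∀ (i j : ℕ) (x y : q8 s w), j ≤ 2 → h.om ^ i * x = h.om ^ (i + j) * y → j = 0 := by
      intro i j x y hj e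
      rw [pow_add, mul_assoc, mul_right_inj] at e
      have : h.om ^ j ∈ q8 s w := by
        rw [← Subgroup.mul_mem_cancel_right _ y.2, ← e]; exact x.2
      interval_cases j
      · rfl
      · exact absurd (by simpa using this) n1
      · exact absurd this n2
    rintro ⟨⟨i, hi⟩, x⟩ ⟨⟨j, hj⟩, y⟩ e
    have e' : h.om ^ i * x = h.om ^ j * y := congrArg Subtype.val e
    have : i = j := by
      rcases le_total i j with hij | hij
      · obtain ⟨k, rfl⟩ := Nat.exists_eq_add_of_le hij
        rw [key i k x y (by omega) e']; rfl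
      · obtain ⟨k, rfl⟩ := Nat.exists_eq_add_of_le hij
        rw [key j k y x (by omega) e'.symm]; rfl
    subst this
    rw [Subtype.ext (mul_left_cancel e')]
  · rintro ⟨g, hg⟩
    rcases h.normalizer_cases hns hg with e | e | e
    · exact ⟨(0, ⟨g, e⟩), Subtype.ext (by simp)⟩
    · refine ⟨(2, ⟨_, e⟩), Subtype.ext ?_⟩
      change h.om ^ 2 * (h.om * g) = g
      rw [← mul_assoc, ← pow_succ, h.om_cube, one_mul]
    · refine ⟨(1, ⟨_, e⟩), Subtype.ext ?_⟩
      change h.om ^ 1 * (h.om ^ 2 * g) = g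
      rw [← mul_assoc, ← pow_add, h.om_cube, one_mul]

/-- Elements of the normaliser outside the quaternion group have cube `±1`. -/
theorem cube_of_not_mem (h : QPair s w) (hns : ¬ IsSquare (2 : F)) {g : SLT F}
    (hg : g ∈ Subgroup.normalizer ((q8 s w : Subgroup (SLT F)) : Set (SLT F))) (hg' : g ∉ q8 s w) :
    g.1.trace ^ 2 = 1 := by
  have e1 : s.1 * s.1 = -1 := congrArg Subtype.val h.ss
  have e2 : w.1 * w.1 = -1 := congrArg Subtype.val h.ww
  have e3 : w.1 * s.1 = -(s.1 * w.1) := congrArg Subtype.val h.ws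
  have e4 : s.1 * (s.1 * w.1) = -w.1 := congrArg Subtype.val h.ssw
  have e5 : w.1 * (s.1 * w.1) = s.1 := congrArg Subtype.val h.wsw
  have e6 : s.1 * w.1 * s.1 = w.1 := congrArg Subtype.val h.sws
  have e7 : s.1 * w.1 * w.1 = -s.1 := congrArg Subtype.val h.sww
  have e8 : s.1 * w.1 * (s.1 * w.1) = -1 := congrArg Subtype.val h.swsw
  have t3 : (s.1 * w.1).trace = 0 := h.tsw
  have h2 := h.two
  have key : ∀ x ∈ q8 s w, (h.om * x).1.trace ^ 2 = 1 := by
    intro x hx
    have a0 : (omM s w).trace ^ 2 = 1 := by rw [h.trace_omM]; ring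
    have a1 : (omM s w * s.1).trace ^ 2 = 1 := by
      simp only [omM, smul_mul_assoc, add_mul, neg_mul, one_mul, e1, e3, e6, trace_smul, trace_add,
        trace_neg, h.ts, h.tw, t3, trace_one, Fintype.card_fin, smul_eq_mul]
      field_simp; norm_num
    have a2 : (omM s w * w.1).trace ^ 2 = 1 := by
      simp only [omM, smul_mul_assoc, add_mul, neg_mul, one_mul, e2, e7, trace_smul, trace_add,
        trace_neg, h.ts, h.tw, t3, trace_one, Fintype.card_fin, smul_eq_mul]
      field_simp; norm_num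
    have a3 : (omM s w * (s.1 * w.1)).trace ^ 2 = 1 := by
      simp only [omM, smul_mul_assoc, add_mul, neg_mul, one_mul, e4, e5, e8, trace_smul, trace_add,
        trace_neg, h.ts, h.tw, t3, trace_one, Fintype.card_fin, smul_eq_mul]
      field_simp; norm_num
    rcases h.mem_iff.1 hx with e | e | e | e | e | e | e | e <;>
      simp [e, om, a0, a1, a2, a3]
  rcases h.normalizer_cases hns hg with e | e | e
  · exact absurd e hg'
  · rw [← sl_trace_inv, ← sl_trace_conj h.om]
    have := key _ (inv_mem e)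
    rwa [_root_.mul_inv_rev, ← mul_assoc] at this
  · have := key _ e
    rwa [← mul_assoc, ← pow_succ', h.om_cube, one_mul] at this

end QPair

end Cfsg.Agent.SL2
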