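import Cfsg.Agent.SL2.Pres1

/-!
Bounded presentations of SL₂(q) and PSL₂(q).
-/

set_option autoImplicit false

open Matrix Polynomial

namespace Cfsg.Agent.SL2Pres

open Cfsg.Agent.SL2

variable {F : Type*} [Field F]

theorem aeval_surjective [Fintype F] (p : ℕ) [Fact p.Prime] [CharP F p] [Algebra (ZMod p) F] (θ : F)
    (H : ∀ d : ℕ, 1 ≤ d → (p ^ d) ^ 2 ≤ Fintype.card F → θ ^ p ^ d ≠ θ) :
    Function.Surjective (aeval θ : (ZMod p)[X] → F) := by
  classical
  let K := IntermediateField.adjoin (ZMod p) ({θ} : Set F)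
  have hK : K = ⊤ := by
    by_contra hne
    have h1 : Module.finrank K F ≠ 1 := fun e => hne (IntermediateField.finrank_eq_one_iff_eq_top.1 e)
    have h0 : 0 < Module.finrank K F := Module.finrank_pos
    let _ : Fintype K := Fintype.ofFinite K
    obtain ⟨d, -, hd⟩ := FiniteField.card K p
    have hc : Fintype.card F = Fintype.card K ^ Module.finrank K F := Module.card_eq_pow_finrank
    apply H d d.2
    · rw [hc, ← hd]
      exact Nat.pow_le_pow_right Fintype.card_pos (by omega)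
    · have := FiniteField.pow_card (⟨θ, IntermediateField.mem_adjoin_simple_self _ θ⟩ : K)
      rw [hd] at this
      exact congrArg Subtype.val this
  have h2 := IntermediateField.adjoin_simple_toSubalgebra_of_isAlgebraic
    (Algebra.IsAlgebraic.isAlgebraic (R := ZMod p) θ)
  rw [Algebra.adjoin_singleton_eq_range_aeval] at h2
  rw [← AlgHom.range_eq_top, ← h2]
  change K.toSubalgebra = ⊤
  rw [hK]; rfl

theorem exists_coeffs (p : ℕ) [Fact p.Prime] [Algebra (ZMod p) F] {θ : F}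
    (hsurj : Function.Surjective (aeval θ : (ZMod p)[X] → F)) (a : F) :
    ∃ (c : ℕ → ℕ) (n : ℕ), a = ∑ i ∈ Finset.range n, (c i : F) * θ ^ i := by
  obtain ⟨f, rfl⟩ := hsurj a
  refine ⟨fun i => (f.coeff i).val, f.natDegree + 1, ?_⟩
  rw [aeval_eq_sum_range]
  refine Finset.sum_congr rfl fun i _ => ?_
  rw [← nsmul_eq_mul, ← Nat.cast_smul_eq_nsmul (ZMod p), ZMod.natCast_zmod_val]

theorem sum_minpoly (p : ℕ) [Fact p.Prime] [Algebra (ZMod p) F] (θ : F) :
    ∑ i ∈ Finset.range ((minpoly (ZMod p) θ).natDegree + 1),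
      ((((minpoly (ZMod p) θ).coeff i).val : ℕ) : F) * θ ^ i = 0 := by
  rw [← minpoly.aeval (ZMod p) θ, aeval_eq_sum_range]
  refine Finset.sum_congr rfl fun i _ => ?_
  rw [← nsmul_eq_mul, ← Nat.cast_smul_eq_nsmul (ZMod p), ZMod.natCast_zmod_val]

theorem dvd_of_pow_eq_one [Fintype F] {ζ : Fˣ} (hζ : orderOf ζ = Fintype.card F - 1) {n : ℕ}
    (h : (ζ : F) ^ n = 1) : Fintype.card F - 1 ∣ n := by
  rw [← hζ]; exact orderOf_dvd_of_pow_eq_one (Units.ext (by simpa using h))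

theorem surj_sq [Fintype F] (p : ℕ) [Fact p.Prime] [CharP F p] [Algebra (ZMod p) F] {ζ : Fˣ}
    (hζ : orderOf ζ = Fintype.card F - 1) :
    Function.Surjective (aeval ((ζ : F) ^ 2) : (ZMod p)[X] → F) := by
  refine aeval_surjective p _ fun d hd hq e => ?_
  have hr : 2 ≤ p ^ d := le_trans (Fact.out : p.Prime).two_le (Nat.le_self_pow (by omega) p)
  obtain ⟨r, hr'⟩ := Nat.exists_eq_add_of_le hr
  rw [hr'] at e hq
  have h1 : (ζ : F) ^ (2 * (1 + r)) = 1 := by
    apply mul_left_cancel₀ (pow_ne_zero 2 ζ.ne_zero)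
    rw [mul_one]
    nth_rewrite 2 [← e]
    ring
  have := Nat.le_of_dvd (by omega) (dvd_of_pow_eq_one hζ h1)
  have : (2 + r) ^ 2 = 4 + 4 * r + r ^ 2 := by ring
  omega

theorem surj_baumslag [Fintype F] (p : ℕ) [Fact p.Prime] [CharP F p] [Algebra (ZMod p) F] {ζ : Fˣ}
    (hζ : orderOf ζ = Fintype.card F - 1) (h2 : (2 : F) ≠ 0) (hq : 9 < Fintype.card F) :
    Function.Surjective (aeval ((((ζ : F) - (ζ : F)⁻¹) / 2) ^ 2) : (ZMod p)[X] → F) := by
  refine aeval_surjective p _ fun d hd hq' e => ?_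
  have hr : 2 ≤ p ^ d := le_trans (Fact.out : p.Prime).two_le (Nat.le_self_pow (by omega) p)
  set y : F := (ζ : F) ^ 2 with hy
  have hy0 : y ≠ 0 := pow_ne_zero 2 ζ.ne_zero
  have hz := ζ.ne_zero
  have e1 : y + y⁻¹ = 4 * (((ζ : F) - (ζ : F)⁻¹) / 2) ^ 2 + 2 := by
    rw [hy]; field_simp; ring
  have e2 : (y + y⁻¹) ^ p ^ d = y + y⁻¹ := by
    rw [e1, ← iterateFrobenius_def, map_add, map_mul, map_ofNat, map_ofNat, iterateFrobenius_def, e]
  rw [add_pow_char_pow, inv_pow] at e2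
  have hyr : y ^ p ^ d ≠ 0 := pow_ne_zero _ hy0
  have e3 : (y ^ p ^ d - y) * (y ^ p ^ d * y - 1) = 0 := by
    field_simp at e2
    linear_combination e2
  obtain ⟨r, hr'⟩ := Nat.exists_eq_add_of_le hr
  rw [hr'] at e3 hq'
  have h4 : (2 + r) ^ 2 = 4 + 4 * r + r ^ 2 := by ring
  rcases mul_eq_zero.1 e3 with h | h
  · have h1 : (ζ : F) ^ (2 * (1 + r)) = 1 := by
      apply mul_left_cancel₀ hy0
      rw [mul_one, pow_mul, ← hy]
      linear_combination h
    have := Nat.le_of_dvd (by omega) (dvd_of_pow_eq_one hζ h1)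
    omega
  · have h1 : (ζ : F) ^ (2 * (3 + r)) = 1 := by
      rw [pow_mul, ← hy]
      linear_combination h
    have := Nat.le_of_dvd (by omega) (dvd_of_pow_eq_one hζ h1)
    have : r ≤ 1 := by
      by_contra hr2
      have : 2 * r ≤ r ^ 2 := by nlinarith
      omega
    omega

theorem mem_powers_of_orderOf [Fintype F] {ζ : Fˣ} (hζ : orderOf ζ = Fintype.card F - 1) (a : Fˣ) :
    a ∈ Submonoid.powers ζ := by
  rw [mem_powers_iff_mem_zpowers]
  have : Subgroup.zpowers ζ = ⊤ := by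
    rw [← Subgroup.card_eq_iff_eq_top, Nat.card_zpowers, hζ, Nat.card_units, Nat.card_eq_fintype_card]
  rw [this]; trivial

theorem exists_pow_eq [Fintype F] {ζ : Fˣ} (hζ : orderOf ζ = Fintype.card F - 1) {a : F}
    (ha : a ≠ 0) : ∃ n : ℕ, (ζ : F) ^ n = a := by
  obtain ⟨n, hn⟩ := mem_powers_of_orderOf hζ (Units.mk0 a ha)
  exact ⟨n, by simpa using congrArg Units.val hn⟩

/-- The three free generators. -/
def xa : FreeGroup (Fin 3) := FreeGroup.of 0
/-- The three free generators. -/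
def xb : FreeGroup (Fin 3) := FreeGroup.of 1
/-- The three free generators. -/
def xc : FreeGroup (Fin 3) := FreeGroup.of 2

/-- The evaluation at the standard generators of SL₂. -/
def ev (ζ : Fˣ) : FreeGroup (Fin 3) →* SLT F := FreeGroup.lift ![upT 1, dg ζ, wS]

@[simp] theorem ev_xa (ζ : Fˣ) : ev ζ xa = upT 1 := by simp [ev, xa]
@[simp] theorem ev_xb (ζ : Fˣ) : ev ζ xb = dg ζ := by simp [ev, xb]
@[simp] theorem ev_xc (ζ : Fˣ) : ev ζ xc = wS := by simp [ev, xc]

theorem upT_commute (a b : F) : Commute (upT a) (upT b) := by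
  rw [Commute, SemiconjBy, ← upT_add, ← upT_add, add_comm]

theorem presented_equiv [Fintype F] (p : ℕ) [Fact p.Prime] [CharP F p] [Algebra (ZMod p) F]
    {ζ : Fˣ} (hζ : orderOf ζ = Fintype.card F - 1)
    {H : Type*} [Group H] (ρ : SLT F →* H) (hρs : Function.Surjective ρ)
    (hρ : ∀ g, ρ g = 1 → IsScal g.1) (rels : Set (FreeGroup (Fin 3)))
    (hrel : ∀ r ∈ rels, ρ (ev ζ r) = 1) (φ : F → PresentedGroup rels)
    (h1 : φ 1 = PresentedGroup.mk rels xa)
    (C : Core ζ φ (PresentedGroup.mk rels xb) (PresentedGroup.mk rels xc))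
    (hk : ∀ n : ℕ, ρ (dg (ζ ^ n)) = 1 → PresentedGroup.mk rels xb ^ n = 1) :
    Nonempty (PresentedGroup rels ≃* H) := by
  have e : FreeGroup.lift (fun i => ρ (ev ζ (FreeGroup.of i))) = ρ.comp (ev ζ) := by
    ext i; simp
  let π : PresentedGroup rels →* H := PresentedGroup.toGroup
    (f := fun i => ρ (ev ζ (FreeGroup.of i))) (fun r hr => by rw [e]; exact hrel r hr)
  have πa : π (PresentedGroup.mk rels xa) = ρ (upT 1) := by
    rw [← ev_xa ζ]; exact PresentedGroup.toGroup.of _ (x := 0)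
  have πb : π (PresentedGroup.mk rels xb) = ρ (dg ζ) := by
    rw [← ev_xb ζ]; exact PresentedGroup.toGroup.of _ (x := 1)
  have πc : π (PresentedGroup.mk rels xc) = ρ wS := by
    rw [← ev_xc ζ]; exact PresentedGroup.toGroup.of _ (x := 2)
  have πφ : ∀ a, π (φ a) = ρ (upT a) := by
    intro a
    obtain ⟨c, n, rfl⟩ := exists_coeffs p (surj_sq p hζ) a
    rw [← phi_cw C.add C.conj, ← phi_cw (core_sl ζ).add (core_sl ζ).conj, map_cw, map_cw, h1, πa, πb]
  refine ⟨MulEquiv.ofBijective π ⟨?_, ?_⟩⟩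
  · rw [injective_iff_map_eq_one]
    intro g hg
    obtain ⟨n, rfl, hn⟩ := C.ker_sl (mem_powers_of_orderOf hζ) (fun g => by
      apply PresentedGroup.generated_by
      intro j
      apply Subgroup.subset_closure
      rw [h1]
      fin_cases j
      · left; rfl
      · right; left; rfl
      · right; right; rfl) ρ hρ π πφ πb πc g hg
    exact hk n hn
  · intro x
    obtain ⟨g, rfl⟩ := hρs x
    exact sl_closure (π.range.comap ρ) (fun a => ⟨φ a, πφ a⟩) ⟨_, πc⟩ g

theorem exists_R_odd [Fintype F] (p : ℕ) [Fact p.Prime] [CharP F p] [Algebra (ZMod p) F]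
    {ζ : Fˣ} (hζ : orderOf ζ = Fintype.card F - 1) (h2 : (2 : F) ≠ 0) :
    ∃ r2 r3 r5 : FreeGroup (Fin 3), (ev ζ r2 = 1 ∧ ev ζ r3 = 1 ∧ ev ζ r5 = 1) ∧
      ∀ (G : Type) [Group G] (f : FreeGroup (Fin 3) →* G), f r2 = 1 → f r3 = 1 → f r5 = 1 →
        ∀ i, Commute (f xa) (cj (f xb) i (f xa)) := by
  have hz := ζ.ne_zero
  by_cases hq : 9 < Fintype.card F
  · have hk0 : ((ζ : F) - (ζ : F)⁻¹) / 2 ≠ 0 := by
      intro e
      have : (ζ : F) ^ 2 = 1 := by field_simp at e; linear_combination e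
      have := Nat.le_of_dvd (by omega) (dvd_of_pow_eq_one hζ this)
      omega
    have hl0 : ((ζ : F) + (ζ : F)⁻¹) / 2 ≠ 0 := by
      intro e
      have : (ζ : F) ^ 4 = 1 := by field_simp at e; linear_combination ((ζ : F) ^ 2 - 1) * e
      have := Nat.le_of_dvd (by omega) (dvd_of_pow_eq_one hζ this)
      omega
    obtain ⟨k, hk⟩ := exists_pow_eq hζ hk0
    obtain ⟨l, hl⟩ := exists_pow_eq hζ hl0
    obtain ⟨c, n, hc⟩ := exists_coeffs p (surj_baumslag p hζ h2 hq) ((ζ : F) ^ 2)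
    refine ⟨xa * cj (xb ^ k) 1 xa * (cj (xb ^ k) 1 xa * xa)⁻¹,
      xb ^ l * xa * (xb ^ l)⁻¹ * (xa * cj (xb ^ k) 1 xa)⁻¹,
      xb * xa * xb⁻¹ * (cw xa (xb ^ k) c n)⁻¹, ⟨?_, ?_, ?_⟩, ?_⟩
    · simp only [map_mul, map_inv, map_cj, map_pow, ev_xa, ev_xb, mul_inv_eq_one, dg_pow,
        phi_cj (dg_conj_upT _)]
      exact (upT_commute _ _).eq
    · simp only [map_mul, map_inv, map_cj, map_pow, ev_xa, ev_xb, mul_inv_eq_one, dg_pow,
        phi_cj (dg_conj_upT _), dg_conj_upT, ← upT_add, Units.val_pow_eq_pow_val, hk, hl]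
      congr 1
      field_simp
      ring
    · simp only [map_mul, map_inv, map_cw, map_pow, ev_xa, ev_xb, mul_inv_eq_one, dg_pow,
        phi_cw upT_add (dg_conj_upT _), dg_conj_upT, Units.val_pow_eq_pow_val, hk, ← hc, mul_one]
    · intro G _ f e2 e3 e5
      simp only [map_mul, map_inv, map_cj, map_cw, map_pow, mul_inv_eq_one] at e2 e3 e5
      exact commute_of_word (Commute.pow_left (Commute.refl _) k)
        (baumslag ((Commute.refl _).pow_pow k l) e2 e3) e5
  · have hp3 : 3 ≤ p := by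
      have := (Fact.out : p.Prime).two_le
      have : p ≠ 2 := by
        rintro rfl
        exact h2 (by exact_mod_cast CharP.cast_eq_zero F 2)
      omega
    obtain ⟨a, b, hab⟩ : ∃ a b : ℕ, ((ζ : F) ^ 2) ^ 2 = a + b * (ζ : F) ^ 2 := by
      by_cases hinj : Function.Injective
          (fun x : ZMod p × ZMod p => algebraMap (ZMod p) F x.1 + algebraMap (ZMod p) F x.2 * (ζ : F) ^ 2)
      · have hb := (Fintype.bijective_iff_injective_and_card _).2 ⟨hinj, le_antisymm
          (Fintype.card_le_of_injective _ hinj) (by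
            rw [Fintype.card_prod, ZMod.card]; nlinarith)⟩
        obtain ⟨⟨x, y⟩, e⟩ := hb.2 (((ζ : F) ^ 2) ^ 2)
        refine ⟨x.val, y.val, ?_⟩
        rw [← e, ← map_natCast (algebraMap (ZMod p) F), ← map_natCast (algebraMap (ZMod p) F),
          ZMod.natCast_zmod_val, ZMod.natCast_zmod_val]
      · simp only [Function.Injective, not_forall] at hinj
        obtain ⟨⟨x, y⟩, ⟨x', y'⟩, e, hne⟩ := hinj
        have hy : y - y' ≠ 0 := by
          intro hy
          rw [sub_eq_zero] at hy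
          subst hy
          exact hne (Prod.ext ((algebraMap (ZMod p) F).injective (add_right_cancel e)) rfl)
        have hy' : algebraMap (ZMod p) F (y - y') ≠ 0 := (_root_.map_ne_zero _).2 hy
        have e' : (ζ : F) ^ 2 = algebraMap (ZMod p) F ((x' - x) / (y - y')) := by
          rw [map_div₀, eq_div_iff hy', map_sub, map_sub]
          linear_combination e
        refine ⟨0, ((x' - x) / (y - y')).val, ?_⟩
        rw [← map_natCast (algebraMap (ZMod p) F) (ZMod.val _), ZMod.natCast_zmod_val, ← e']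
        simp [sq]
    refine ⟨xa * cj xb 1 xa * (cj xb 1 xa * xa)⁻¹, cj xb 2 xa * (xa ^ a * cj xb 1 xa ^ b)⁻¹, 1,
      ⟨?_, ?_, map_one _⟩, ?_⟩
    · simp only [map_mul, map_inv, map_cj, ev_xa, ev_xb, mul_inv_eq_one, phi_cj (dg_conj_upT _)]
      exact (upT_commute _ _).eq
    · simp only [map_mul, map_inv, map_cj, map_pow, ev_xa, ev_xb, mul_inv_eq_one,
        phi_cj (dg_conj_upT _), ← phi_nsmul upT_add, ← upT_add, hab, mul_one, pow_one]
    · intro G _ f e2 e3 _
      simp only [map_mul, map_inv, map_cj, map_pow, mul_inv_eq_one] at e2 e3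
      exact commute_of_deg_two e2 e3

theorem exists_R_even [Fintype F] {ζ : Fˣ} (hζ : orderOf ζ = Fintype.card F - 1) (h2 : (2 : F) = 0) :
    ∃ r : FreeGroup (Fin 3), ev ζ r = 1 ∧
      ∀ (G : Type) [Group G] (f : FreeGroup (Fin 3) →* G), f xa ^ 2 = 1 → f r = 1 →
        ∀ i, Commute (f xa) (cj (f xb) i (f xa)) := by
  by_cases h1 : 1 + (ζ : F) ^ 2 = 0
  · have h1' : (ζ : F) ^ 2 = 1 := by linear_combination h1 - h2
    refine ⟨xb * xa * xb⁻¹ * xa⁻¹, ?_, ?_⟩
    · simp only [map_mul, map_inv, ev_xa, ev_xb, mul_inv_eq_one, dg_conj_upT, h1', mul_one]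
    · intro G _ f _ e i
      simp only [map_mul, map_inv, mul_inv_eq_one] at e
      have : cj (f xb) i (f xa) = f xa := by
        induction i with
        | zero => exact cj_zero _ _
        | succ i ih => rw [cj_succ, ih, e]
      rw [this]
  · obtain ⟨s, hs⟩ := isSquare_of_two_eq_zero h2 (1 + (ζ : F) ^ 2)
    obtain ⟨l, hl⟩ := exists_pow_eq hζ (a := s) (by rintro rfl; simp [hs] at h1)
    refine ⟨xb ^ l * xa * (xb ^ l)⁻¹ * (xa * cj xb 1 xa)⁻¹, ?_, ?_⟩
    · simp only [map_mul, map_inv, map_cj, map_pow, ev_xa, ev_xb, mul_inv_eq_one, dg_pow,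
        phi_cj (dg_conj_upT _), dg_conj_upT, ← upT_add, Units.val_pow_eq_pow_val, hl]
      congr 1
      linear_combination -hs
    · intro G _ f e1 e
      simp only [map_mul, map_inv, map_cj, map_pow, mul_inv_eq_one] at e
      refine baumslag ((Commute.refl _).pow_right l) ?_ e
      have a1 : (f xa * cj (f xb) 1 (f xa)) ^ 2 = 1 := by rw [← e, conj_pow, e1]; simp
      have a2 : cj (f xb) 1 (f xa) ^ 2 = 1 := by rw [cj, conj_pow, e1]; simp
      rw [sq] at a1 a2 e1
      rw [Commute, SemiconjBy, eq_inv_of_mul_eq_one_left a1, _root_.mul_inv_rev,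
        inv_eq_of_mul_eq_one_left a2, inv_eq_of_mul_eq_one_left e1]

theorem main_odd [Fintype F] (h2 : (2 : F) ≠ 0) :
    (∃ rels : Finset (FreeGroup (Fin 3)), rels.card ≤ 9 ∧
      Nonempty (PresentedGroup (↑rels : Set (FreeGroup (Fin 3))) ≃* SLT F)) ∧
    (∃ rels : Finset (FreeGroup (Fin 3)), rels.card ≤ 9 ∧
      Nonempty (PresentedGroup (↑rels : Set (FreeGroup (Fin 3))) ≃* PSLT F)) := by
  classical
  obtain ⟨p, hp⟩ := CharP.exists F
  have : Fact p.Prime := ⟨CharP.char_is_prime F p⟩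
  let _ : Algebra (ZMod p) F := ZMod.algebra F p
  obtain ⟨ζ, hζ⟩ := exists_unit_generator (F := F)
  obtain ⟨r2, r3, r5, ⟨a2, a3, a5⟩, hR⟩ := exists_R_odd p hζ h2
  obtain ⟨c1, n1, hc1⟩ := exists_coeffs p (surj_sq p hζ) (ζ : F)
  obtain ⟨c2, n2, hc2⟩ := exists_coeffs p (surj_sq p hζ) (ζ : F)⁻¹
  let m := minpoly (ZMod p) ((ζ : F) ^ 2)
  let L : List (FreeGroup (Fin 3)) := [xa ^ p, r2, r3, r5,
    cw xa xb (fun i => (m.coeff i).val) (m.natDegree + 1), xc * xb * xc⁻¹ * xb⁻¹⁻¹,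
    xa * (xc * xa * xc⁻¹) * xa * xc⁻¹,
    cw xa xb c1 n1 * (xc * cw xa xb c2 n2 * xc⁻¹) * cw xa xb c1 n1 * (xb * xc)⁻¹]
  have hL : ∀ r ∈ L, ev ζ r = 1 := by
    simp only [L, List.forall_mem_cons, a2, a3, a5, map_mul, map_inv, map_cw, map_pow, ev_xa, ev_xb,
      ev_xc, mul_inv_eq_one, phi_cw upT_add (dg_conj_upT _), ← hc1, ← hc2, true_and]
    refine ⟨sl_pow_char_of_trace_two p (trace_upT 1), ?_, (core_sl ζ).th, (core_sl ζ).w1,
      (core_sl ζ).wz, by simp⟩
    rw [sum_minpoly, upT_zero]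
  have hcore : ∀ rels : Set (FreeGroup (Fin 3)), (∀ r ∈ L, r ∈ rels) →
      ∃ φ : F → PresentedGroup rels, φ 1 = PresentedGroup.mk rels xa ∧
        Core ζ φ (PresentedGroup.mk rels xb) (PresentedGroup.mk rels xc) := by
    intro rels hr
    have hr' : ∀ r ∈ L, PresentedGroup.mk rels r = 1 := fun r h => PresentedGroup.one_of_mem (hr r h)
    simp only [L, List.forall_mem_cons, map_mul, map_inv, map_cw, map_pow, mul_inv_eq_one] at hr'
    obtain ⟨b1, b2, b3, b5, b4, b7, b8, b9, -⟩ := hr'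
    obtain ⟨φ, e1, e2, e3⟩ := exists_phi p ((ζ : F) ^ 2) (surj_sq p hζ) b1 (hR _ _ b2 b3 b5)
      (Nat.lt_succ_self _) b4
    refine ⟨φ, e2, e1, e3, b7, by rw [e2]; exact b8, ?_⟩
    rw [← e2, phi_cw e1 e3, phi_cw e1 e3, ← hc1, ← hc2] at b9
    exact b9
  constructor
  · refine ⟨L.toFinset, (List.toFinset_card_le L).trans (by simp [L]), ?_⟩
    obtain ⟨φ, e1, C⟩ := hcore L.toFinset (by simp)
    refine presented_equiv p hζ (MonoidHom.id _) Function.surjective_id
      (fun g hg => sl_isScal_iff.2 (Or.inl hg)) _ (fun r hr => hL r (by simpa using hr)) φ e1 C ?_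
    intro n hn
    apply C.pow_eq_one
    have := dg_injective (hn.trans dg_one.symm)
    simpa using congrArg Units.val this
  · refine ⟨((xc * xc) :: L).toFinset, (List.toFinset_card_le _).trans (by simp [L]), ?_⟩
    obtain ⟨φ, e1, C⟩ := hcore ((xc * xc) :: L).toFinset (fun r hr => by simp [hr])
    refine presented_equiv p hζ pr pr_surjective (fun g hg => pr_eq_one_iff.1 hg) _ ?_ φ e1 C ?_
    · intro r hr
      rcases List.mem_cons.1 (List.mem_toFinset.1 hr) with rfl | hr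
      · rw [map_mul, ev_xc, sq_eq_neg_one_of_trace trace_wS, pr_neg, map_one]
      · rw [hL r hr, map_one]
    · intro n hn
      rcases pr_eq_one_iff'.1 hn with hn | hn
      · apply C.pow_eq_one
        have := dg_injective (hn.trans dg_one.symm)
        simpa using congrArg Units.val this
      · have := dg_injective (hn.trans dg_neg_one.symm)
        have := C.pow_eq_neg_one (n := n) (by simpa using congrArg Units.val this)
        rwa [← map_mul, PresentedGroup.one_of_mem (x := xc * xc) (by simp), mul_one] at this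

theorem core_of_even {G : Type*} [Group G] {ζ : Fˣ} {φ : F → G} {h t : G}
    (add : ∀ a b, φ (a + b) = φ a * φ b) (conj : ∀ a, h * φ a * h⁻¹ = φ ((ζ : F) ^ 2 * a)) {k : ℕ}
    (hζk : ζ ^ (2 * k + 1) = 1) (b1 : φ 1 ^ 2 = 1) (b8 : φ 1 * t * φ 1 = t * φ 1 * t)
    (b7 : t * h ^ (k + 1) * t = h ^ k) : Core ζ φ h t := by
  have htt : t * t = 1 := by
    have : t = (φ 1 * t) * φ 1 * (φ 1 * t)⁻¹ := by
      rw [eq_mul_inv_iff_mul_eq, b8, mul_assoc]
    rw [← sq, this, conj_pow, b1]; simp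
  have hti : t⁻¹ = t := inv_eq_of_mul_eq_one_left htt
  have b7' : t * h ^ k * t = h ^ (k + 1) := by
    calc t * h ^ k * t = (t * t) * h ^ (k + 1) * (t * t) := by rw [← b7]; group
      _ = _ := by rw [htt]; simp
  have hth : t * h * t⁻¹ = h⁻¹ := by
    calc t * h * t⁻¹ = (t * h ^ (k + 1) * t) * (t * h ^ k * t)⁻¹ * (t * (h ^ k * h⁻¹ ^ k) * t⁻¹) := by
          group
      _ = (t * h ^ (k + 1) * t) * (t * h ^ k * t)⁻¹ := by simp
      _ = h⁻¹ := by rw [b7, b7']; group
  have hw1 : φ 1 * (t * φ 1 * t⁻¹) * φ 1 = t := by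
    rw [hti, ← b8]
    calc φ 1 * (φ 1 * t * φ 1) * φ 1 = φ 1 ^ 2 * t * φ 1 ^ 2 := by simp only [sq, mul_assoc]
      _ = t := by rw [b1]; simp
  have hh : h ^ (2 * k + 1) = 1 := by
    have : t * h ^ (k + 1) * t = (h ^ (k + 1))⁻¹ := by
      rw [← inv_pow, ← hth, conj_pow, hti]
    rw [b7, eq_inv_iff_mul_eq_one, ← pow_add] at this
    rw [← this]; congr 1; ring
  have hht : h * t = t * h⁻¹ := by
    calc h * t = (h⁻¹)⁻¹ * t := by group
      _ = (t * h * t⁻¹)⁻¹ * t := by rw [hth]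
      _ = _ := by group
  have conj_inv : ∀ a, h⁻¹ * φ a * h = φ (((ζ : F) ^ 2)⁻¹ * a) := fun a => by
    have := conj (((ζ : F) ^ 2)⁻¹ * a)
    rw [mul_inv_cancel_left₀ (pow_ne_zero 2 ζ.ne_zero)] at this
    rw [← this]; group
  have C2 : Core (ζ ^ 2) φ (h ^ 2) t := by
    refine ⟨add, fun a => ?_, by rw [← conj_pow, hth, inv_pow], hw1, ?_⟩
    · rw [Units.val_pow_eq_pow_val, sq ((ζ : F) ^ 2), mul_assoc ((ζ : F) ^ 2), ← conj, ← conj, sq h]
      group
    · rw [Units.val_pow_eq_pow_val, ← mul_one ((ζ : F) ^ 2)⁻¹, ← conj_inv, ← mul_one ((ζ : F) ^ 2),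
        ← conj]
      calc _ = (h * φ 1 * h⁻¹) * ((t * h⁻¹) * φ 1 * (t * h⁻¹)⁻¹) * (h * φ 1 * h⁻¹) := by group
        _ = h * (φ 1 * (t * φ 1 * t⁻¹) * φ 1) * h⁻¹ := by rw [← hht]; group
        _ = _ := by rw [hw1, mul_assoc, ← hht, sq, mul_assoc]
  refine ⟨add, conj, hth, hw1, ?_⟩
  have := C2.w_pow (k + 1)
  rw [← Units.val_pow_eq_pow_val, ← pow_mul, ← pow_mul, show 2 * (k + 1) = (2 * k + 1) + 1 by ring,
    pow_succ, pow_succ h, hζk, hh, one_mul, one_mul] at this
  exact this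

theorem main_even [Fintype F] (h2 : (2 : F) = 0) {H : Type*} [Group H] (ρ : SLT F →* H)
    (hρ : Function.Bijective ρ) :
    ∃ rels : Finset (FreeGroup (Fin 3)), rels.card ≤ 5 ∧
      Nonempty (PresentedGroup (↑rels : Set (FreeGroup (Fin 3))) ≃* H) := by
  classical
  have : CharP F 2 := (CharP.charP_iff_prime_eq_zero Nat.prime_two).2 (by exact_mod_cast h2)
  let _ : Algebra (ZMod 2) F := ZMod.algebra F 2
  obtain ⟨ζ, hζ⟩ := exists_unit_generator (F := F)
  obtain ⟨r, ar, hR⟩ := exists_R_even hζ h2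
  obtain ⟨k, hk⟩ : ∃ k, Fintype.card F = 2 * (k + 1) := by
    obtain ⟨k, hk⟩ := even_of_two_eq_zero h2
    have := Fintype.card_pos (α := F)
    exact ⟨k - 1, by omega⟩
  have hζk : ζ ^ (2 * k + 1) = 1 := by
    rw [show 2 * k + 1 = orderOf ζ by omega, pow_orderOf_eq_one]
  let m := minpoly (ZMod 2) ((ζ : F) ^ 2)
  let L : List (FreeGroup (Fin 3)) := [xa ^ 2, r,
    cw xa xb (fun i => (m.coeff i).val) (m.natDegree + 1), xa * xc * xa * (xc * xa * xc)⁻¹,
    xc * xb ^ (k + 1) * xc * (xb ^ k)⁻¹]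
  have hww : (wS : SLT F) * wS = 1 := by rw [sq_eq_neg_one_of_trace trace_wS, sl_neg_eq_self h2]
  have huu : upT (1 : F) * upT 1 = 1 := by rw [← sq]; exact sl_pow_char_of_trace_two 2 (trace_upT 1)
  have hL : ∀ r ∈ L, ev ζ r = 1 := by
    simp only [L, List.forall_mem_cons, ar, map_mul, map_inv, map_cw, map_pow, ev_xa, ev_xb,
      ev_xc, mul_inv_eq_one, phi_cw upT_add (dg_conj_upT _), true_and]
    refine ⟨sl_pow_char_of_trace_two 2 (trace_upT 1), ?_, ?_, ?_, by simp⟩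
    · rw [sum_minpoly, upT_zero]
    · have := (core_sl ζ).w1
      rw [inv_eq_of_mul_eq_one_left hww] at this
      calc upT (1 : F) * wS * upT 1
          = (upT (1 : F) * (wS * upT 1 * wS) * upT 1) * (upT 1)⁻¹ * wS⁻¹ := by group
        _ = _ := by rw [this, inv_eq_of_mul_eq_one_left hww, inv_eq_of_mul_eq_one_left huu]
    · have := (core_sl ζ).th
      calc wS * dg ζ ^ (k + 1) * wS = (wS * dg ζ * wS⁻¹) ^ (k + 1) := by
            rw [conj_pow, inv_eq_of_mul_eq_one_left hww]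
        _ = _ := by
            rw [this, inv_pow, inv_eq_iff_mul_eq_one, ← pow_add, dg_pow,
              show k + 1 + k = 2 * k + 1 by ring, hζk, dg_one]
  refine ⟨L.toFinset, (List.toFinset_card_le L).trans (by simp [L]), ?_⟩
  set rels : Set (FreeGroup (Fin 3)) := ↑L.toFinset with hrels
  have hr' : ∀ r ∈ L, PresentedGroup.mk rels r = 1 := fun r h =>
    PresentedGroup.one_of_mem (by simpa [hrels] using h)
  simp only [L, List.forall_mem_cons, map_mul, map_inv, map_cw, map_pow, mul_inv_eq_one] at hr'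
  obtain ⟨b1, b2, b4, b8, b7, -⟩ := hr'
  obtain ⟨φ, e1, e2, e3⟩ := exists_phi 2 ((ζ : F) ^ 2) (surj_sq 2 hζ) b1 (hR _ _ b1 b2)
    (Nat.lt_succ_self _) b4
  have C := core_of_even e1 e3 hζk (by rw [e2]; exact b1) (by rw [e2]; exact b8) b7
  refine presented_equiv 2 hζ ρ hρ.2 (fun g hg => sl_isScal_iff.2 (Or.inl (hρ.1 (by rw [hg, map_one]))))
    _ (fun r hr => by rw [hL r (by simpa [hrels] using hr), map_one]) φ e2 C ?_
  intro n hn
  apply C.pow_eq_one
  have := dg_injective ((hρ.1 (hn.trans (map_one ρ).symm)).trans dg_one.symm)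
  simpa using congrArg Units.val this

end Cfsg.Agent.SL2Pres
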