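import Cfsg.Agent.SL2.Elem

/-!
Normalisers of tori in SL₂ and centralisers in PSL₂.
-/

set_option autoImplicit false

open Matrix

namespace Cfsg.Agent.SL2

variable {F : Type*} [Field F]

/-- The centraliser of `s` in `SL₂`. -/
abbrev Cen (s : SLT F) : Subgroup (SLT F) := Subgroup.centralizer ({s} : Set (SLT F))

/-- The normaliser of the centraliser of `s` in `SL₂`. -/
abbrev NCen (s : SLT F) : Subgroup (SLT F) := Subgroup.normalizer (Cen s : Set (SLT F))

theorem mem_cen {s g : SLT F} : g ∈ Cen s ↔ g * s = s * g := Subgroup.mem_centralizer_singleton_iff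

theorem mem_cen' {s g : SLT F} : g ∈ Cen s ↔ g * s * g⁻¹ = s := by
  rw [mem_cen, mul_inv_eq_iff_eq_mul]

theorem inv_of_inverts {s w g : SLT F} (hs : ¬ IsScal s.1) (hw : w * s * w⁻¹ = s⁻¹)
    (hg : g ∈ Cen s) : w * g * w⁻¹ = g⁻¹ := by
  obtain ⟨a, b, e⟩ := exists_of_comm hs (mem_cent_sl.1 hg)
  rw [mul_inv_eq_iff_eq_mul] at hw ⊢
  have hw' := congrArg Subtype.val hw
  apply sl_ext
  rw [sl_mul_val, sl_mul_val, sl_inv_val'] at hw' ⊢
  rw [e, trace_comb, mul_add, mul_smul_comm, mul_smul_comm, hw']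
  simp only [sub_mul, add_mul, smul_mul_assoc, one_mul, mul_one]
  module

theorem trace_eq_zero_of_inverts {s w : SLT F} (hs : s.1.trace ^ 2 ≠ 4) (hw : w * s * w⁻¹ = s⁻¹) :
    w.1.trace = 0 := by
  rw [mul_inv_eq_iff_eq_mul] at hw
  have hw' := congrArg Subtype.val hw
  rw [sl_mul_val, sl_mul_val, sl_inv_val, m2_ext_iff] at hw'
  simp [mul_ap] at hw'
  obtain ⟨h1, h2, h3, h4⟩ := hw'
  have hd := sl_det s
  rw [trace_fin_two] at hs ⊢
  apply mul_left_cancel₀ (sub_ne_zero.2 hs)
  linear_combination (s.1 0 0 - s.1 1 1) * (h1 - h4) + 2 * s.1 1 0 * h2 + 2 * s.1 0 1 * h3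
    + 4 * (w.1 0 0 + w.1 1 1) * hd

theorem sq_of_inverts {s w : SLT F} (hs : s.1.trace ^ 2 ≠ 4) (hw : w * s * w⁻¹ = s⁻¹) :
    w * w = -1 := sq_eq_neg_one_of_trace (trace_eq_zero_of_inverts hs hw)

theorem ne_inv_of_semisimple {s : SLT F} (hs : s.1.trace ^ 2 ≠ 4) : s ≠ s⁻¹ := by
  intro e
  have hs' := sl_not_isScal_of_disc hs
  have e' := congrArg Subtype.val e
  rw [sl_inv_val'] at e'
  have : (0 : F) • (1 : M2 F) + (1 : F) • s.1 = s.1.trace • (1 : M2 F) + (-1 : F) • s.1 := by
    simpa [sub_eq_add_neg] using e'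
  obtain ⟨h1, h2⟩ := coeff_unique hs' this
  apply hs
  rw [← h1]
  linear_combination -2 * h2

theorem not_mem_cen_of_inverts {s w : SLT F} (hs : s.1.trace ^ 2 ≠ 4) (hw : w * s * w⁻¹ = s⁻¹) :
    w ∉ Cen s := fun h => ne_inv_of_semisimple hs ((mem_cen'.1 h).symm.trans hw)

theorem exists_inverts [Finite F] {s : SLT F} (hs : s.1.trace ^ 2 ≠ 4) :
    ∃ w : SLT F, w * s * w⁻¹ = s⁻¹ :=
  isConj_iff.1 (sl_isConj_of_trace hs (sl_trace_inv s).symm)

theorem mem_normalizer_of_centralizes_or_inverts {G : Type*} [Group G] {P : Subgroup G} {g : G}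
    (h : (∀ x ∈ P, g * x * g⁻¹ = x) ∨ (∀ x ∈ P, g * x * g⁻¹ = x⁻¹)) :
    g ∈ Subgroup.normalizer (P : Set G) := by
  rw [Subgroup.mem_normalizer_iff]
  intro x
  rcases h with h | h
  · constructor
    · intro hx; rw [h x hx]; exact hx
    · intro hx
      have := h _ hx
      have e : g * x * g⁻¹ = x := mul_left_cancel (mul_right_cancel this)
      rw [← e]; exact hx
  · constructor
    · intro hx; rw [h x hx]; exact P.inv_mem hx
    · intro hx
      have h2 := h _ (P.inv_mem hx)
      rw [inv_inv] at h2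
      have e : (g * x * g⁻¹)⁻¹ = x := mul_left_cancel (mul_right_cancel h2)
      rw [← e]; exact P.inv_mem hx

theorem mem_ncen_iff {s g : SLT F} (hs : s.1.trace ^ 2 ≠ 4) :
    g ∈ NCen s ↔ g * s * g⁻¹ = s ∨ g * s * g⁻¹ = s⁻¹ := by
  have hs' := sl_not_isScal_of_disc hs
  constructor
  · intro h
    exact eq_or_eq_inv_of_mem_cent hs ((Subgroup.mem_normalizer_iff.1 h s).1 (self_mem_cent s))
      (sl_trace_conj g s)
  · rintro (h | h)
    · refine mem_normalizer_of_centralizes_or_inverts (Or.inl fun x hx => ?_)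
      rw [cent_comm hs' (mem_cen'.2 h) hx, mul_inv_cancel_right]
    · exact mem_normalizer_of_centralizes_or_inverts (Or.inr fun x hx => inv_of_inverts hs' h hx)

theorem cen_le_ncen (s : SLT F) : Cen s ≤ NCen s := Subgroup.le_normalizer

theorem inverts_of_mem_ncen {s g : SLT F} (hs : s.1.trace ^ 2 ≠ 4) (hg : g ∈ NCen s)
    (hg' : g ∉ Cen s) : g * s * g⁻¹ = s⁻¹ :=
  ((mem_ncen_iff hs).1 hg).resolve_left fun h => hg' (mem_cen'.2 h)

theorem mul_mem_cen_of_inverts {s g w : SLT F} (hw : w * s * w⁻¹ = s⁻¹) (hg : g * s * g⁻¹ = s⁻¹) :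
    g * w ∈ Cen s := by
  rw [mem_cen']
  calc g * w * s * (g * w)⁻¹ = g * (w * s * w⁻¹) * g⁻¹ := by group
    _ = (g * s * g⁻¹)⁻¹ := by rw [hw]; group
    _ = s := by rw [hg, inv_inv]

theorem inverts_mul_of_mem_cen {s g w : SLT F} (hw : w * s * w⁻¹ = s⁻¹) (hg : g ∈ Cen s) :
    (w * g) * s * (w * g)⁻¹ = s⁻¹ := by
  rw [mem_cen'] at hg
  calc w * g * s * (w * g)⁻¹ = w * (g * s * g⁻¹) * w⁻¹ := by group
    _ = s⁻¹ := by rw [hg, hw]

theorem mul_inverts_of_mem_cen {s g w : SLT F} (hw : w * s * w⁻¹ = s⁻¹) (hg : g ∈ Cen s) :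
    (g * w) * s * (g * w)⁻¹ = s⁻¹ := by
  rw [mem_cen'] at hg
  calc g * w * s * (g * w)⁻¹ = g * (w * s * w⁻¹) * g⁻¹ := by group
    _ = (g * s * g⁻¹)⁻¹ := by rw [hw]; group
    _ = s⁻¹ := by rw [hg]

theorem index_cen_ncen [Finite F] {s : SLT F} (hs : s.1.trace ^ 2 ≠ 4) :
    ((Cen s).subgroupOf (NCen s)).index = 2 := by
  obtain ⟨w, hw⟩ := exists_inverts hs
  rw [Subgroup.index_eq_two_iff]
  refine ⟨⟨w, (mem_ncen_iff hs).2 (Or.inr hw)⟩, fun b => ?_⟩
  simp only [Subgroup.mem_subgroupOf, Subgroup.coe_mul]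
  by_cases hb : (b : SLT F) ∈ Cen s
  · right
    exact ⟨hb, not_mem_cen_of_inverts hs (mul_inverts_of_mem_cen hw hb)⟩
  · left
    exact ⟨mul_mem_cen_of_inverts hw (inverts_of_mem_ncen hs b.2 hb), hb⟩

theorem card_ncen [Finite F] {s : SLT F} (hs : s.1.trace ^ 2 ≠ 4) :
    Nat.card (NCen s) = 2 * Nat.card (Cen s) := by
  rw [← Subgroup.card_mul_index ((Cen s).subgroupOf (NCen s)), index_cen_ncen hs,
    Nat.card_congr (Subgroup.subgroupOfEquivOfLe (cen_le_ncen s)).toEquiv, mul_comm]

/-- Class number of a group with an abelian subgroup of index two inverted by the outer elements. -/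
theorem card_conjClasses_of_inverting {G : Type*} [Group G] [Finite G] (A : Subgroup G)
    (hi : A.index = 2) (hc : ∀ a ∈ A, ∀ b ∈ A, a * b = b * a)
    (hinv : ∀ g, g ∉ A → ∀ a ∈ A, g * a * g⁻¹ = a⁻¹) :
    2 * Nat.card (ConjClasses G) = Nat.card A + 3 * Nat.card {a : G // a ∈ A ∧ a * a = 1} := by
  classical
  cases nonempty_fintype G
  set n := Nat.card A with hn
  set z := Nat.card {a : G // a ∈ A ∧ a * a = 1} with hz
  have hG : Nat.card G = n * 2 := by rw [← hi, Subgroup.card_mul_index]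
  have hn' : (Finset.univ.filter (fun g : G => g ∈ A)).card = n := by
    rw [hn, Nat.card_eq_fintype_card, Fintype.card_subtype]
  have hz' : (Finset.univ.filter (fun g : G => g ∈ A ∧ g * g = 1)).card = z := by
    rw [hz, Nat.card_eq_fintype_card, Fintype.card_subtype]
  have hout : (Finset.univ.filter (fun g : G => g ∉ A)).card = n := by
    have := Finset.card_filter_add_card_filter_not (s := Finset.univ) (fun g : G => g ∈ A)
    rw [hn', Finset.card_univ, ← Nat.card_eq_fintype_card, hG] at this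
    omega
  have key : ∀ g, g ∉ A → ∀ a ∈ A, (Commute a g ↔ a * a = 1) := by
    intro g hg a ha
    have := hinv g hg a ha
    constructor
    · intro h
      rw [← h.eq, mul_inv_cancel_right] at this
      nth_rewrite 2 [this]; simp
    · intro h
      rw [mul_inv_eq_iff_eq_mul, inv_eq_of_mul_eq_one_right h] at this
      exact this.symm
  have hcomm : ∀ g : G, (Finset.univ.filter (fun h : G => Commute g h)).card =
      (if g ∈ A then n else 2 * z) + (if g ∈ A ∧ g * g = 1 then n else 0) := by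
    intro g
    rw [← Finset.card_filter_add_card_filter_not (fun h : G => h ∈ A), Finset.filter_filter,
      Finset.filter_filter]
    by_cases hg : g ∈ A
    · have e1 : (Finset.univ.filter (fun h : G => Commute g h ∧ h ∈ A)) =
          Finset.univ.filter (fun h : G => h ∈ A) := by
        apply Finset.filter_congr
        intro h _
        exact ⟨fun x => x.2, fun x => ⟨hc g hg h x, x⟩⟩
      rw [e1, hn', if_pos hg]
      congr 1
      by_cases h2 : g * g = 1
      · rw [if_pos ⟨hg, h2⟩, ← hout]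
        congr 1
        apply Finset.filter_congr
        intro h _
        exact ⟨fun x => x.2, fun x => ⟨(key h x g hg).2 h2, x⟩⟩
      · rw [if_neg (fun x => h2 x.2), Finset.card_eq_zero, Finset.filter_eq_empty_iff]
        intro h _ x
        exact h2 ((key h x.2 g hg).1 x.1)
    · rw [if_neg hg, if_neg (fun x => hg x.1), add_zero, two_mul]
      have e1 : (Finset.univ.filter (fun h : G => Commute g h ∧ h ∈ A)) =
          Finset.univ.filter (fun h : G => h ∈ A ∧ h * h = 1) := by
        apply Finset.filter_congr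
        intro h _
        exact ⟨fun x => ⟨x.2, (key g hg h x.2).1 x.1.symm⟩, fun x => ⟨((key g hg h x.1).2 x.2).symm, x.1⟩⟩
      rw [e1, hz']
      congr 1
      rw [← hz', ← e1]
      apply Finset.card_bij (fun h _ => g⁻¹ * h)
      · intro h hh
        simp only [Finset.mem_filter, Finset.mem_univ, true_and] at hh ⊢
        refine ⟨(Commute.refl g).inv_right.mul_right hh.1, ?_⟩
        rw [Subgroup.mul_mem_iff_of_index_two hi, inv_mem_iff]
        tauto
      · intro a _ b _ e
        exact mul_left_cancel e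
      · intro h hh
        simp only [Finset.mem_filter, Finset.mem_univ, true_and] at hh
        refine ⟨g * h, ?_, by simp⟩
        simp only [Finset.mem_filter, Finset.mem_univ, true_and]
        refine ⟨(Commute.refl g).mul_right hh.1, ?_⟩
        rw [Subgroup.mul_mem_iff_of_index_two hi]
        tauto
  have hsum : Nat.card {p : G × G // Commute p.1 p.2} =
      ∑ g : G, (Finset.univ.filter (fun h : G => Commute g h)).card := by
    rw [Nat.card_eq_fintype_card, Fintype.card_subtype, Finset.card_filter, Fintype.sum_prod_type]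
    simp only [Finset.card_filter]
  rw [card_comm_eq_card_conjClasses_mul_card, hG] at hsum
  simp only [hcomm, Finset.sum_add_distrib, Finset.sum_ite, Finset.sum_const, smul_eq_mul, hn', hz',
    hout, mul_zero, add_zero] at hsum
  have hpos : 0 < n := Nat.card_pos
  apply Nat.eq_of_mul_eq_mul_left hpos
  linarith

theorem card_conjClasses_ncen [Finite F] (h2 : (2 : F) ≠ 0) {s : SLT F} (hs : s.1.trace ^ 2 ≠ 4) :
    2 * Nat.card (ConjClasses (NCen s)) = Nat.card (Cen s) + 6 := by
  have hs' := sl_not_isScal_of_disc hs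
  rw [card_conjClasses_of_inverting ((Cen s).subgroupOf (NCen s)) (index_cen_ncen hs),
    Nat.card_congr (Subgroup.subgroupOfEquivOfLe (cen_le_ncen s)).toEquiv]
  · have h1 : (-1 : SLT F) ∈ NCen s := cen_le_ncen s (neg_one_mem_cent s)
    have : {a : NCen s | a ∈ (Cen s).subgroupOf (NCen s) ∧ a * a = 1} = {1, ⟨-1, h1⟩} := by
      ext a
      simp only [Set.mem_ofPred_eq, Set.mem_insert_iff, Set.mem_singleton_iff, Subgroup.mem_subgroupOf]
      constructor
      · rintro ⟨-, h⟩
        rcases sl_isScal_iff.1 (isScal_of_sq_eq_one h2 (congrArg Subtype.val h)) with e | e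
        · exact Or.inl (Subtype.ext e)
        · exact Or.inr (Subtype.ext e)
      · rintro (rfl | rfl)
        · exact ⟨one_mem _, mul_one _⟩
        · exact ⟨neg_one_mem_cent s, Subtype.ext (by simp)⟩
    have e : Nat.card {a : NCen s // a ∈ (Cen s).subgroupOf (NCen s) ∧ a * a = 1} = 2 := by
      change Nat.card {a : NCen s | a ∈ (Cen s).subgroupOf (NCen s) ∧ a * a = 1} = 2
      rw [this, Nat.card_coe_set_eq, Set.ncard_pair]
      intro e
      exact sl_neg_ne_self h2 1 (congrArg Subtype.val e).symm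
    rw [e]
  · intro a ha b hb
    exact Subtype.ext (cent_comm hs' ha hb)
  · intro g hg a ha
    exact Subtype.ext (inv_of_inverts hs' (inverts_of_mem_ncen hs g.2 hg) ha)

/-! ### Centralisers in the projective group -/

theorem mem_comap_cent_pr {g x : SLT F} :
    x ∈ (Subgroup.centralizer ({pr g} : Set (PSLT F))).comap pr ↔
      x * g * x⁻¹ = g ∨ x * g * x⁻¹ = -g := by
  rw [Subgroup.mem_comap, Subgroup.mem_centralizer_singleton_iff, ← mul_inv_eq_iff_eq_mul,
    ← map_inv, ← map_mul, ← map_mul, pr_eq_iff]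

theorem comap_cent_pr_of_trace_ne {g : SLT F} (h : g.1.trace ≠ 0 ∨ (2 : F) = 0) :
    (Subgroup.centralizer ({pr g} : Set (PSLT F))).comap pr = Cen g := by
  ext x
  rw [mem_comap_cent_pr, mem_cen']
  refine ⟨fun e => ?_, Or.inl⟩
  rcases e with e | e
  · exact e
  · by_cases h2 : (2 : F) = 0
    · rw [e, sl_neg_eq_self h2]
    · exfalso
      have := sl_trace_conj x g
      rw [e, sl_trace_neg] at this
      apply h.resolve_right h2
      apply mul_left_cancel₀ h2
      linear_combination -this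

theorem inv_eq_neg_of_trace {g : SLT F} (h : g.1.trace = 0) : g⁻¹ = -g := by
  apply sl_ext; rw [sl_inv_val', h]; simp

theorem disc_of_trace_zero (h2 : (2 : F) ≠ 0) {g : SLT F} (h : g.1.trace = 0) :
    g.1.trace ^ 2 ≠ 4 := by
  rw [h]; intro e
  have : (2 : F) * 2 = 0 := by linear_combination -e
  simp [h2] at this

theorem comap_cent_pr_of_trace_zero (h2 : (2 : F) ≠ 0) {g : SLT F} (h : g.1.trace = 0) :
    (Subgroup.centralizer ({pr g} : Set (PSLT F))).comap pr = NCen g := by
  ext x
  rw [mem_comap_cent_pr, mem_ncen_iff (disc_of_trace_zero h2 h), inv_eq_neg_of_trace h]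

theorem index_cent_pr (g : SLT F) : (Subgroup.centralizer ({pr g} : Set (PSLT F))).index =
    ((Subgroup.centralizer ({pr g} : Set (PSLT F))).comap pr).index :=
  (Subgroup.index_comap_of_surjective _ pr_surjective).symm

theorem orderOf_pr_dvd_iff {g : SLT F} {n : ℕ} : orderOf (pr g) ∣ n ↔ g ^ n = 1 ∨ g ^ n = -1 := by
  rw [orderOf_dvd_iff_pow_eq_one, ← map_pow, pr_eq_one_iff']

theorem spl_zero_iff [Fintype F] (h2 : (2 : F) ≠ 0) : Spl (0 : F) 1 ↔ Fintype.card F % 4 = 1 := by
  have hodd := Nat.odd_iff.1 (odd_of_two_ne_zero h2)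
  have := FiniteField.isSquare_neg_one_iff (F := F)
  constructor
  · rintro ⟨a, b, -, h1, h3⟩
    have : Fintype.card F % 4 ≠ 3 := this.1 ⟨a, by linear_combination h3 - a * h1⟩
    omega
  · intro h
    obtain ⟨a, ha⟩ := this.2 (by omega)
    refine ⟨a, -a, fun e => ?_, by ring, by linear_combination ha⟩
    have : a = 0 := by apply mul_left_cancel₀ h2; linear_combination e
    rw [this] at ha; simp at ha

theorem ell_zero_iff [Fintype F] (h2 : (2 : F) ≠ 0) : Ell (0 : F) 1 ↔ Fintype.card F % 4 = 3 := by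
  have hodd := Nat.odd_iff.1 (odd_of_two_ne_zero h2)
  have h4 : (0 : F) ^ 2 ≠ 4 := by
    intro e
    have : (2 : F) * 2 = 0 := by linear_combination -e
    simp [h2] at this
  constructor
  · intro h
    by_contra h3
    exact ((spl_zero_iff h2).2 (by omega)).not_ell h
  · intro h
    refine (ell_or_spl_one h4).resolve_right fun e => ?_
    have := (spl_zero_iff h2).1 e
    omega

end Cfsg.Agent.SL2
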