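import Cfsg.Agent.SL2.More

/-!
Abstract recognition of SL₂(q) from generators `u`, `h`, `t` and Steinberg-type relations.
-/

set_option autoImplicit false

open Matrix Polynomial

namespace Cfsg.Agent.SL2Pres

open Cfsg.Agent.SL2

variable {F : Type*} [Field F] {G : Type*} [Group G]

/-- The conjugate `hⁱ u h⁻ⁱ`. -/
def cj (h : G) (i : ℕ) (u : G) : G := h ^ i * u * (h ^ i)⁻¹

/-- The word `∏_{i < n} (hⁱ u h⁻ⁱ)^{c i}`. -/
def cw (u h : G) (c : ℕ → ℕ) (n : ℕ) : G := ((List.range n).map fun i => cj h i u ^ c i).prod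

theorem cw_zero (u h : G) (c : ℕ → ℕ) : cw u h c 0 = 1 := rfl

theorem cw_succ (u h : G) (c : ℕ → ℕ) (n : ℕ) :
    cw u h c (n + 1) = cw u h c n * cj h n u ^ c n := by
  simp [cw, List.range_succ]

theorem map_cj {H : Type*} [Group H] (f : G →* H) (h : G) (i : ℕ) (u : G) :
    f (cj h i u) = cj (f h) i (f u) := by simp [cj]

theorem map_cw {H : Type*} [Group H] (f : G →* H) (u h : G) (c : ℕ → ℕ) (n : ℕ) :
    f (cw u h c n) = cw (f u) (f h) c n := by
  induction n with
  | zero => simp [cw_zero]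
  | succ n ih => rw [cw_succ, cw_succ, map_mul, map_pow, ih, map_cj]

theorem cj_zero (h u : G) : cj h 0 u = u := by simp [cj]

theorem cj_one (h u : G) : cj h 1 u = h * u * h⁻¹ := by simp [cj]

theorem cj_succ (h : G) (i : ℕ) (u : G) : cj h (i + 1) u = h * cj h i u * h⁻¹ := by
  simp only [cj, pow_succ']; group

theorem cj_add (h : G) (i j : ℕ) (u : G) : cj h (i + j) u = h ^ i * cj h j u * (h ^ i)⁻¹ := by
  simp only [cj]; group

theorem cj_pow (h : G) (k i : ℕ) (u : G) : cj (h ^ k) i u = cj h (k * i) u := by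
  simp only [cj, pow_mul]

theorem conj_commute {a b : G} (g : G) (h : Commute a b) : Commute (g * a * g⁻¹) (g * b * g⁻¹) := by
  have := h.map (MulAut.conj g)
  simpa using this

theorem commute_cj_of {u h : G} (H : ∀ i, Commute u (cj h i u)) (i j : ℕ) :
    Commute (cj h i u) (cj h j u) := by
  wlog hij : i ≤ j generalizing i j
  · exact (this j i (le_of_not_ge hij)).symm
  obtain ⟨k, rfl⟩ := Nat.exists_eq_add_of_le hij
  rw [cj_add]
  exact conj_commute _ (H k)

/-- Baumslag's trick. -/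
theorem baumslag {u a b : G} (hab : Commute a b) (h1 : Commute u (cj a 1 u))
    (h2 : b * u * b⁻¹ = u * cj a 1 u) (i : ℕ) : Commute u (cj a i u) := by
  have hb : ∀ n, b * cj a n u * b⁻¹ = cj a n u * cj a (n + 1) u := by
    intro n
    have e : b * a ^ n = a ^ n * b := (hab.symm.pow_right n).eq
    calc b * cj a n u * b⁻¹ = (b * a ^ n) * u * (b * a ^ n)⁻¹ := by simp only [cj]; group
      _ = a ^ n * (b * u * b⁻¹) * (a ^ n)⁻¹ := by rw [e]; group
      _ = _ := by rw [h2, cj_add]; simp only [cj]; group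
  have key : ∀ n, ∀ i ≤ n + 1, Commute u (cj a i u) := by
    intro n
    induction n with
    | zero =>
      intro i hi
      interval_cases i
      · rw [cj_zero]
      · exact h1
    | succ n ih =>
      intro i hi
      rcases Nat.lt_or_ge i (n + 2) with hlt | hge
      · exact ih i (by omega)
      obtain rfl : i = n + 2 := by omega
      have c1 := conj_commute b (ih (n + 1) le_rfl)
      rw [h2, hb] at c1
      have c2 : Commute (cj a 1 u) (cj a (n + 1) u) := by
        rw [add_comm n 1, cj_add, cj_one, pow_one]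
        exact conj_commute _ (ih n (by omega))
      have c3 : Commute (cj a 1 u) (cj a (n + 1 + 1) u) := by
        rw [add_comm (n + 1) 1, cj_add, cj_one, pow_one]
        exact conj_commute _ (ih (n + 1) le_rfl)
      have c4 : Commute u (cj a (n + 1) u * cj a (n + 1 + 1) u) := by
        have := c1.mul_left (c2.mul_right c3).inv_left
        rwa [mul_inv_cancel_right] at this
      have := (ih (n + 1) le_rfl).inv_right.mul_right c4
      rwa [inv_mul_cancel_left] at this
  exact key i i (by omega)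

/-- If `h u h⁻¹` lies in an abelian subgroup generated by conjugates of `u` under an element
commuting with `h`, all conjugates of `u` under `h` commute. -/
theorem commute_of_word {u h a : G} (hah : Commute a h) (H : ∀ i, Commute u (cj a i u))
    {c : ℕ → ℕ} {n : ℕ} (h5 : h * u * h⁻¹ = cw u a c n) (i : ℕ) : Commute u (cj h i u) := by
  let A : Subgroup G := Subgroup.closure (Set.range fun i => cj a i u)
  have hA : IsMulCommutative A := Subgroup.isMulCommutative_closure (by
    rintro _ ⟨i, rfl⟩ _ ⟨j, rfl⟩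
    exact (commute_cj_of H i j).eq)
  have hm : ∀ i, cj a i u ∈ A := fun i => Subgroup.subset_closure ⟨i, rfl⟩
  have hu : u ∈ A := by simpa [cj_zero] using hm 0
  have hcw : ∀ n, cw u a c n ∈ A := by
    intro n
    induction n with
    | zero => exact A.one_mem
    | succ n ih => rw [cw_succ]; exact A.mul_mem ih (A.pow_mem (hm n) _)
  have ha : ∀ x ∈ A, a * x * a⁻¹ ∈ A := by
    intro x hx
    induction hx using Subgroup.closure_induction with
    | mem x hx => obtain ⟨i, rfl⟩ := hx; rw [← cj_succ]; exact hm _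
    | one => simp
    | mul x y _ _ hx hy => simpa [mul_assoc] using A.mul_mem hx hy
    | inv x _ hx => simpa [mul_assoc] using A.inv_mem hx
  have ha' : ∀ i, ∀ x ∈ A, cj a i x ∈ A := by
    intro i x hx
    induction i with
    | zero => rwa [cj_zero]
    | succ i ih => rw [cj_succ]; exact ha _ ih
  have hh : ∀ x ∈ A, h * x * h⁻¹ ∈ A := by
    intro x hx
    induction hx using Subgroup.closure_induction with
    | mem x hx =>
      obtain ⟨i, rfl⟩ := hx
      have e : h * a ^ i = a ^ i * h := (hah.symm.pow_right i).eq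
      have : h * cj a i u * h⁻¹ = cj a i (h * u * h⁻¹) := by
        calc h * cj a i u * h⁻¹ = (h * a ^ i) * u * (h * a ^ i)⁻¹ := by simp only [cj]; group
          _ = _ := by rw [e]; simp only [cj]; group
      simp only
      rw [this, h5]
      exact ha' _ _ (hcw n)
    | one => simp
    | mul x y _ _ hx hy => simpa [mul_assoc] using A.mul_mem hx hy
    | inv x _ hx => simpa [mul_assoc] using A.inv_mem hx
  have hi : cj h i u ∈ A := by
    induction i with
    | zero => rwa [cj_zero]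
    | succ i ih => rw [cj_succ]; exact hh _ ih
  exact congrArg Subtype.val (hA.is_comm.comm ⟨u, hu⟩ ⟨_, hi⟩)

/-- The degree two case. -/
theorem commute_of_deg_two {u h : G} (h1 : Commute u (cj h 1 u)) {a b : ℕ}
    (h2 : cj h 2 u = u ^ a * cj h 1 u ^ b) (i : ℕ) : Commute u (cj h i u) := by
  let A : Subgroup G := Subgroup.closure {u, cj h 1 u}
  have hA : IsMulCommutative A := Subgroup.isMulCommutative_closure (by
    rintro _ (rfl | rfl) _ (rfl | rfl)
    · rfl
    · exact h1.eq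
    · exact h1.symm.eq
    · rfl)
  have hu : u ∈ A := Subgroup.subset_closure (by simp)
  have hu1 : cj h 1 u ∈ A := Subgroup.subset_closure (by simp)
  have hh : ∀ x ∈ A, h * x * h⁻¹ ∈ A := by
    intro x hx
    induction hx using Subgroup.closure_induction with
    | mem x hx =>
      rcases hx with rfl | rfl
      · rwa [← cj_one]
      · rw [← cj_succ, h2]; exact A.mul_mem (A.pow_mem hu _) (A.pow_mem hu1 _)
    | one => simp
    | mul x y _ _ hx hy => simpa [mul_assoc] using A.mul_mem hx hy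
    | inv x _ hx => simpa [mul_assoc] using A.inv_mem hx
  have hi : cj h i u ∈ A := by
    induction i with
    | zero => rwa [cj_zero]
    | succ i ih => rw [cj_succ]; exact hh _ ih
  exact congrArg Subtype.val (hA.is_comm.comm ⟨u, hu⟩ ⟨_, hi⟩)

section Phi

variable {φ : F → G} {h : G} {θ : F}

theorem phi_zero (add : ∀ a b, φ (a + b) = φ a * φ b) : φ 0 = 1 := by
  have := add 0 0
  rw [add_zero] at this
  exact left_eq_mul.1 this

theorem phi_neg (add : ∀ a b, φ (a + b) = φ a * φ b) (a : F) : φ (-a) = (φ a)⁻¹ := by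
  rw [eq_inv_iff_mul_eq_one, ← add, neg_add_cancel, phi_zero add]

theorem phi_nsmul (add : ∀ a b, φ (a + b) = φ a * φ b) (n : ℕ) (a : F) : φ (n * a) = φ a ^ n := by
  induction n with
  | zero => simp [phi_zero add]
  | succ n ih => rw [Nat.cast_succ, add_mul, one_mul, add, ih, pow_succ]

theorem phi_cj (conj : ∀ a, h * φ a * h⁻¹ = φ (θ * a)) (i : ℕ) (a : F) :
    cj h i (φ a) = φ (θ ^ i * a) := by
  induction i with
  | zero => simp [cj_zero]
  | succ i ih => rw [cj_succ, ih, conj, pow_succ', mul_assoc]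

theorem phi_cw (add : ∀ a b, φ (a + b) = φ a * φ b) (conj : ∀ a, h * φ a * h⁻¹ = φ (θ * a))
    (c : ℕ → ℕ) (n : ℕ) : cw (φ 1) h c n = φ (∑ i ∈ Finset.range n, (c i : F) * θ ^ i) := by
  induction n with
  | zero => simp [cw_zero, phi_zero add]
  | succ n ih => rw [cw_succ, ih, Finset.sum_range_succ, add, phi_cj conj, mul_one, phi_nsmul add]

end Phi

theorem exists_phi_module (p : ℕ) [Fact p.Prime] [Algebra (ZMod p) F] (θ : F)
    (hsurj : Function.Surjective (aeval θ : (ZMod p)[X] → F)) {M : Type*} [AddCommGroup M]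
    [Module (ZMod p) M] (T : Module.End (ZMod p) M) (u0 : M) {n : ℕ}
    (hn : (minpoly (ZMod p) θ).natDegree < n)
    (hm : ∑ i ∈ Finset.range n, ((minpoly (ZMod p) θ).coeff i).val • T^[i] u0 = 0) :
    ∃ φ : F → M, (∀ a b, φ (a + b) = φ a + φ b) ∧ φ 1 = u0 ∧ ∀ a, T (φ a) = φ (θ * a) := by
  have hm : aeval T (minpoly (ZMod p) θ) u0 = 0 := by
    rw [aeval_eq_sum_range' hn, LinearMap.sum_apply, ← hm]
    refine Finset.sum_congr rfl fun i _ => ?_
    rw [LinearMap.smul_apply, Module.End.pow_apply, ← Nat.cast_smul_eq_nsmul (ZMod p),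
      ZMod.natCast_zmod_val]
  let Ψ : (ZMod p)[X] → M := fun f => aeval T f u0
  have hΨadd : ∀ f g, Ψ (f + g) = Ψ f + Ψ g := fun f g => by simp [Ψ]
  have hker : ∀ f g : (ZMod p)[X], aeval θ f = aeval θ g → Ψ f = Ψ g := by
    intro f g e
    obtain ⟨k, hk⟩ := minpoly.dvd (ZMod p) θ (p := f - g) (by rw [map_sub, e, sub_self])
    have : f = g + k * minpoly (ZMod p) θ := by rw [mul_comm, ← hk]; ring
    rw [this, hΨadd]
    have : Ψ (k * minpoly (ZMod p) θ) = 0 := by
      simp only [Ψ]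
      rw [map_mul, Module.End.mul_apply, hm, map_zero]
    rw [this, add_zero]
  let s := Function.surjInv hsurj
  have hs : ∀ a, aeval θ (s a) = a := Function.surjInv_eq hsurj
  refine ⟨fun a => Ψ (s a), fun a b => ?_, ?_, fun a => ?_⟩
  · simp only
    rw [hker (s (a + b)) (s a + s b) (by rw [map_add, hs, hs, hs]), hΨadd]
  · simp only
    rw [hker (s 1) 1 (by rw [hs, map_one])]
    simp [Ψ]
  · simp only
    rw [hker (s (θ * a)) (X * s a) (by rw [map_mul, hs, hs, aeval_X])]
    simp [Ψ]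

theorem exists_phi_add (p : ℕ) [Fact p.Prime] [Algebra (ZMod p) F] (θ : F)
    (hsurj : Function.Surjective (aeval θ : (ZMod p)[X] → F)) {M : Type*} [AddCommGroup M]
    (hp : ∀ x : M, p • x = 0) (T : M →+ M) (u0 : M) {n : ℕ}
    (hn : (minpoly (ZMod p) θ).natDegree < n)
    (hm : ∑ i ∈ Finset.range n, ((minpoly (ZMod p) θ).coeff i).val • T^[i] u0 = 0) :
    ∃ φ : F → M, (∀ a b, φ (a + b) = φ a + φ b) ∧ φ 1 = u0 ∧ ∀ a, T (φ a) = φ (θ * a) := by
  let _ : Module (ZMod p) M := AddCommGroup.zmodModule hp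
  exact exists_phi_module p θ hsurj (T.toZModLinearMap p) u0 hn hm

theorem exists_phi_comm (p : ℕ) [Fact p.Prime] [Algebra (ZMod p) F] (θ : F)
    (hsurj : Function.Surjective (aeval θ : (ZMod p)[X] → F)) {A : Type*} [CommGroup A]
    (hp : ∀ x : A, x ^ p = 1) (T : A →* A) (u0 : A) {n : ℕ}
    (hn : (minpoly (ZMod p) θ).natDegree < n)
    (hm : ∏ i ∈ Finset.range n, (T^[i] u0) ^ ((minpoly (ZMod p) θ).coeff i).val = 1) :
    ∃ φ : F → A, (∀ a b, φ (a + b) = φ a * φ b) ∧ φ 1 = u0 ∧ ∀ a, T (φ a) = φ (θ * a) :=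
  exists_phi_add p θ hsurj (M := Additive A) hp (MonoidHom.toAdditive T) (Additive.ofMul u0) hn hm

/-- Construction of the root subgroup from the module relations. -/
theorem exists_phi (p : ℕ) [Fact p.Prime] [Algebra (ZMod p) F] (θ : F)
    (hsurj : Function.Surjective (aeval θ : (ZMod p)[X] → F)) {u h : G} (hu : u ^ p = 1)
    (H : ∀ i, Commute u (cj h i u)) {n : ℕ} (hn : (minpoly (ZMod p) θ).natDegree < n)
    (hm : cw u h (fun i => ((minpoly (ZMod p) θ).coeff i).val) n = 1) :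
    ∃ φ : F → G, (∀ a b, φ (a + b) = φ a * φ b) ∧ φ 1 = u ∧ ∀ a, h * φ a * h⁻¹ = φ (θ * a) := by
  let A : Subgroup G := Subgroup.closure (Set.range fun i => cj h i u)
  have hA : IsMulCommutative A := Subgroup.isMulCommutative_closure (by
    rintro _ ⟨i, rfl⟩ _ ⟨j, rfl⟩
    exact (commute_cj_of H i j).eq)
  have hmem : ∀ i, cj h i u ∈ A := fun i => Subgroup.subset_closure ⟨i, rfl⟩
  have huA : u ∈ A := by simpa [cj_zero] using hmem 0
  have hh : ∀ x ∈ A, h * x * h⁻¹ ∈ A := by
    intro x hx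
    induction hx using Subgroup.closure_induction with
    | mem x hx => obtain ⟨i, rfl⟩ := hx; rw [← cj_succ]; exact hmem _
    | one => simp
    | mul x y _ _ hx hy => simpa [mul_assoc] using A.mul_mem hx hy
    | inv x _ hx => simpa [mul_assoc] using A.inv_mem hx
  have hp : ∀ x ∈ A, x ^ p = 1 := by
    intro x hx
    induction hx using Subgroup.closure_induction with
    | mem x hx => obtain ⟨i, rfl⟩ := hx; simp only [cj]; rw [conj_pow, hu]; simp
    | one => simp
    | mul x y hx' hy' hx hy =>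
      have : Commute x y := congrArg Subtype.val (hA.is_comm.comm ⟨x, hx'⟩ ⟨y, hy'⟩)
      rw [this.mul_pow, hx, hy, mul_one]
    | inv x _ hx => rw [inv_pow, hx, inv_one]
  let _ : CommGroup A := { (inferInstance : Group A) with mul_comm := hA.is_comm.comm }
  let c : A →* A :=
    { toFun := fun x => ⟨h * x * h⁻¹, hh _ x.2⟩
      map_one' := Subtype.ext (by simp)
      map_mul' := fun x y => Subtype.ext (by simp [mul_assoc]) }
  have hc : ∀ x : A, (c x : G) = h * x * h⁻¹ := fun x => rfl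
  have hci : ∀ i, ((c^[i] ⟨u, huA⟩ : A) : G) = cj h i u := by
    intro i
    induction i with
    | zero => simp [cj_zero]
    | succ i ih => rw [Function.iterate_succ_apply', hc, ih, cj_succ]
  have key : ∀ n, ((∏ i ∈ Finset.range n,
      (c^[i] ⟨u, huA⟩ : A) ^ ((minpoly (ZMod p) θ).coeff i).val : A) : G)
      = cw u h (fun i => ((minpoly (ZMod p) θ).coeff i).val) n := by
    intro n
    induction n with
    | zero => rfl
    | succ n ih =>
      rw [Finset.prod_range_succ, cw_succ, ← ih, ← hci]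
      rfl
  obtain ⟨φ, h1, h2, h3⟩ := exists_phi_comm p θ hsurj (A := A) (fun x => Subtype.ext (hp _ x.2)) c
    ⟨u, huA⟩ hn (Subtype.ext ((key n).trans hm))
  exact ⟨fun a => φ a, fun a b => congrArg Subtype.val (h1 a b), congrArg Subtype.val h2,
    fun a => congrArg Subtype.val (h3 a)⟩

/-- The Steinberg-type relations. -/
structure Core (ζ : Fˣ) (φ : F → G) (h t : G) : Prop where
  add : ∀ a b, φ (a + b) = φ a * φ b
  conj : ∀ a, h * φ a * h⁻¹ = φ ((ζ : F) ^ 2 * a)
  th : t * h * t⁻¹ = h⁻¹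
  w1 : φ 1 * (t * φ 1 * t⁻¹) * φ 1 = t
  wz : φ ζ * (t * φ (ζ : F)⁻¹ * t⁻¹) * φ ζ = h * t

namespace Core

variable {ζ : Fˣ} {φ : F → G} {h t : G}

theorem conj_inv (C : Core ζ φ h t) (a : F) : h⁻¹ * φ a * h = φ (((ζ : F) ^ 2)⁻¹ * a) := by
  have := C.conj (((ζ : F) ^ 2)⁻¹ * a)
  rw [mul_inv_cancel_left₀ (pow_ne_zero 2 ζ.ne_zero)] at this
  rw [← this]; group

theorem ht (C : Core ζ φ h t) : h * t = t * h⁻¹ := by
  have := C.th
  calc h * t = (h⁻¹)⁻¹ * t := by group
    _ = (t * h * t⁻¹)⁻¹ * t := by rw [this]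
    _ = _ := by group

theorem conj_w (C : Core ζ φ h t) (c : F) :
    h * (φ c * (t * φ c⁻¹ * t⁻¹) * φ c) * h⁻¹ =
      φ ((ζ : F) ^ 2 * c) * (t * φ ((ζ : F) ^ 2 * c)⁻¹ * t⁻¹) * φ ((ζ : F) ^ 2 * c) := by
  rw [mul_inv, ← C.conj_inv, ← C.conj]
  calc _ = (h * φ c * h⁻¹) * ((h * t) * φ c⁻¹ * (h * t)⁻¹) * (h * φ c * h⁻¹) := by group
    _ = _ := by rw [C.ht]; group

theorem w_pow (C : Core ζ φ h t) (n : ℕ) :
    φ ((ζ : F) ^ n) * (t * φ ((ζ : F) ^ n)⁻¹ * t⁻¹) * φ ((ζ : F) ^ n) = h ^ n * t := by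
  induction n using Nat.twoStepInduction with
  | zero => simpa using C.w1
  | one => simpa using C.wz
  | more n ih _ =>
    rw [add_comm n 2, pow_add, ← C.conj_w, ih, mul_assoc, mul_assoc, ← C.ht]
    group

theorem pow_eq_one (C : Core ζ φ h t) {n : ℕ} (e : (ζ : F) ^ n = 1) : h ^ n = 1 := by
  have := C.w_pow n
  rw [e, inv_one, C.w1] at this
  exact (right_eq_mul.1 this)

theorem pow_eq_neg_one (C : Core ζ φ h t) {n : ℕ} (e : (ζ : F) ^ n = -1) : h ^ n * (t * t) = 1 := by
  have := C.w_pow n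
  rw [e, inv_neg, inv_one, phi_neg C.add] at this
  rw [← mul_assoc, ← this]
  nth_rewrite 3 [← C.w1]
  group

/-- Elements of the Borel subgroup. -/
def InB (φ : F → G) (h : G) (g : G) : Prop := ∃ (a : F) (n : ℕ), g = φ a * h ^ n

theorem inB_phi (C : Core ζ φ h t) (c : F) {g : G} (hg : InB φ h g) : InB φ h (φ c * g) := by
  obtain ⟨a, n, rfl⟩ := hg
  exact ⟨c + a, n, by rw [C.add, mul_assoc]⟩

theorem inB_pow (C : Core ζ φ h t) (k : ℕ) {g : G} (hg : InB φ h g) : InB φ h (h ^ k * g) := by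
  obtain ⟨a, n, rfl⟩ := hg
  refine ⟨((ζ : F) ^ 2) ^ k * a, k + n, ?_⟩
  rw [← phi_cj C.conj, cj]; group

theorem decomp [Finite F] (C : Core ζ φ h t) (hζ : ∀ a : Fˣ, a ∈ Submonoid.powers ζ) {g : G}
    (hg : g ∈ Subgroup.closure {φ 1, h, t}) :
    InB φ h g ∨ ∃ a g', InB φ h g' ∧ g = φ a * t * g' := by
  have hfin : ∃ m : ℕ, h⁻¹ = h ^ m := by
    have h1 : h ^ orderOf ζ = 1 := C.pow_eq_one (by rw [← Units.val_pow_eq_pow_val, pow_orderOf_eq_one]; rfl)
    obtain ⟨m, hm⟩ := Nat.exists_eq_succ_of_ne_zero (orderOf_pos ζ).ne'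
    rw [hm, pow_succ] at h1
    exact ⟨m, (eq_inv_of_mul_eq_one_left h1).symm⟩
  obtain ⟨m, hm⟩ := hfin
  obtain ⟨k0, hk0⟩ : ∃ k0 : ℕ, h ^ k0 * (t * t) = 1 := by
    obtain ⟨n, hn⟩ := hζ (-1)
    exact ⟨n, C.pow_eq_neg_one (by simpa using congrArg Units.val hn)⟩
  have htt : t * t = h ^ (m * k0) := by
    rw [pow_mul, ← hm, inv_pow, eq_inv_iff_mul_eq_one, ← mul_eq_one_comm, hk0]
  have hpt : ∀ k : ℕ, h ^ k * t = t * h ^ (m * k) := by
    intro k
    rw [pow_mul, ← hm]
    induction k with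
    | zero => simp
    | succ k ih => rw [pow_succ', mul_assoc, ih, ← mul_assoc, C.ht, pow_succ', mul_assoc]
  let S : G → Prop := fun g => InB φ h g ∨ ∃ a g', InB φ h g' ∧ g = φ a * t * g'
  have L1 : ∀ c g, S g → S (φ c * g) := by
    rintro c g (hg | ⟨a, g', hg', rfl⟩)
    · exact Or.inl (C.inB_phi c hg)
    · exact Or.inr ⟨c + a, g', hg', by rw [C.add]; group⟩
  have L2 : ∀ (k : ℕ) g, S g → S (h ^ k * g) := by
    rintro k g (hg | ⟨a, g', hg', rfl⟩)
    · exact Or.inl (C.inB_pow k hg)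
    · refine Or.inr ⟨((ζ : F) ^ 2) ^ k * a, _, C.inB_pow (m * k) hg', ?_⟩
      rw [← phi_cj C.conj, cj, mul_assoc, mul_assoc, mul_assoc, mul_assoc, ← mul_assoc t, ← hpt]
      group
  have L3 : ∀ g, S g → S (t * g) := by
    rintro g (hg | ⟨a, g', hg', rfl⟩)
    · exact Or.inr ⟨0, g, hg, by rw [phi_zero C.add, one_mul]⟩
    · by_cases ha : a = 0
      · left
        rw [ha, phi_zero C.add, one_mul, ← mul_assoc, htt]
        exact C.inB_pow _ hg'
      · obtain ⟨n, hn⟩ := hζ (Units.mk0 a ha)⁻¹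
        have hn' : (ζ : F) ^ n = a⁻¹ := by simpa using congrArg Units.val hn
        have hw := C.w_pow n
        rw [hn', inv_inv] at hw
        have e : t * (φ a * t * g') = φ (-a⁻¹) * (h ^ n * (φ 0 * t * (φ (-a⁻¹) * (t * t * g')))) := by
          rw [phi_zero C.add, one_mul, ← mul_assoc (h ^ n), ← hw, phi_neg C.add]; group
        rw [e]
        apply L1
        apply L2
        refine Or.inr ⟨0, _, C.inB_phi _ ?_, rfl⟩
        rw [htt]
        exact C.inB_pow _ hg'
  induction hg using Subgroup.closure_induction_left with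
  | one => exact Or.inl ⟨0, 0, by simp [phi_zero C.add]⟩
  | mul_left x hx y _ ih =>
    rcases hx with rfl | rfl | rfl
    · exact L1 _ _ ih
    · simpa using L2 1 _ ih
    · exact L3 _ ih
  | inv_mul_cancel x hx y _ ih =>
    rcases hx with rfl | rfl | rfl
    · rw [← phi_neg C.add]; exact L1 _ _ ih
    · rw [hm]; exact L2 _ _ ih
    · have : x⁻¹ * y = h ^ k0 * (x * y) := by
        rw [← mul_assoc, mul_left_inj, inv_eq_iff_mul_eq_one, ← mul_eq_one_comm, mul_assoc, hk0]
      rw [this]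
      exact L2 _ _ (L3 _ ih)

end Core

theorem dg_conj_upT (ζ : Fˣ) (a : F) : dg ζ * upT a * (dg ζ)⁻¹ = upT ((ζ : F) ^ 2 * a) := by
  rw [mul_inv_eq_iff_eq_mul]
  apply sl_ext; apply m2_ext <;> simp [upT_val, dg_val, mul_ap]
  field_simp

theorem wS_conj_upT (a : F) : wS * upT a * wS⁻¹ = loT (-a) := by
  rw [mul_inv_eq_iff_eq_mul]
  apply sl_ext; apply m2_ext <;> simp [upT_val, loT_val, wS_val, mul_ap]

theorem w_eq (c : Fˣ) : upT (c : F) * (wS * upT (c : F)⁻¹ * wS⁻¹) * upT (c : F) = dg c * wS := by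
  rw [wS_conj_upT]
  apply sl_ext; apply m2_ext <;> simp [upT_val, loT_val, wS_val, dg_val, mul_ap]

theorem core_sl (ζ : Fˣ) : Core ζ upT (dg ζ) wS where
  add := upT_add
  conj := dg_conj_upT ζ
  th := by
    rw [mul_inv_eq_iff_eq_mul, ← dgHom_apply, ← map_inv, dgHom_apply, dgHom_apply]
    apply sl_ext; apply m2_ext <;> simp [wS_val, dg_val, mul_ap]
  w1 := by simpa [dg_one] using w_eq (1 : Fˣ)
  wz := w_eq ζ

theorem dg_pow (ζ : Fˣ) (n : ℕ) : dg ζ ^ n = dg (ζ ^ n) := by
  rw [← dgHom_apply, ← map_pow, dgHom_apply]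

theorem Core.ker_sl [Finite F] {ζ : Fˣ} {φ : F → G} {h t : G} (C : Core ζ φ h t)
    (hζ : ∀ a : Fˣ, a ∈ Submonoid.powers ζ) (hgen : ∀ g : G, g ∈ Subgroup.closure {φ 1, h, t})
    {H : Type*} [Group H] (ρ : SLT F →* H) (hρ : ∀ g, ρ g = 1 → IsScal g.1)
    (π : G →* H) (h1 : ∀ a, π (φ a) = ρ (upT a)) (h2 : π h = ρ (dg ζ)) (h3 : π t = ρ wS)
    (g : G) (hg : π g = 1) : ∃ n : ℕ, g = h ^ n ∧ ρ (dg (ζ ^ n)) = 1 := by
  rcases C.decomp hζ (hgen g) with ⟨a, n, rfl⟩ | ⟨a, _, ⟨b, n, rfl⟩, rfl⟩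
  · rw [map_mul, map_pow, h1, h2, ← map_pow, ← map_mul, dg_pow] at hg
    have := (hρ _ hg).1
    simp [upT_val, dg_val, mul_ap] at this
    rw [this, upT_zero, one_mul] at hg
    exact ⟨n, by rw [this, phi_zero C.add, one_mul], hg⟩
  · exfalso
    rw [map_mul, map_mul, map_mul, map_pow, h1, h1, h2, h3, ← map_pow, ← map_mul, ← map_mul,
      ← map_mul, dg_pow] at hg
    have := (hρ _ hg).2.1
    simp [upT_val, dg_val, wS_val, mul_ap] at this

theorem sl_closure (S : Subgroup (SLT F)) (h1 : ∀ a, upT a ∈ S) (h2 : wS ∈ S) (g : SLT F) : g ∈ S := by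
  induction g using Matrix.SL2.transvection_induction with
  | htransvec i j hij c =>
    fin_cases i <;> fin_cases j
    · exact absurd rfl hij
    · convert h1 c using 1
      apply sl_ext; apply m2_ext <;> simp [upT_val, Matrix.SpecialLinearGroup.transvection_coe]
    · convert S.mul_mem (S.mul_mem h2 (h1 (-c))) (S.inv_mem h2) using 1
      rw [wS_conj_upT]
      apply sl_ext; apply m2_ext <;> simp [loT_val, Matrix.SpecialLinearGroup.transvection_coe]
    · exact absurd rfl hij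
  | hmul A B hA hB => exact S.mul_mem hA hB

end Cfsg.Agent.SL2Pres
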