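import Cfsg.Agent.SL2.Index

/-!
Products of conjugacy classes in SL₂(q).
-/

set_option autoImplicit false

open Matrix

namespace Cfsg.Agent.SL2

variable {F : Type*} [Field F]

/-- Every non-central element is conjugate to a matrix `(0 -c⁻¹; c t)`. -/
theorem exists_conj_normal {g : SLT F} (hg : ¬ IsScal g.1) :
    ∃ (c : F) (h : SLT F), c ≠ 0 ∧ h.1 = !![0, -c⁻¹; c, g.1.trace] ∧ IsConj g h := by
  obtain ⟨x, y, hx⟩ := exists_Q_ne_zero hg
  refine ⟨Q g.1 x y, mkSL !![0, -(Q g.1 x y)⁻¹; Q g.1 x y, g.1.trace] (by simp [det_fin_two, hx]),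
    hx, rfl, sl_isConj_of_Q (by simp [trace_fin_two]) hx (x' := 1) (y' := 0) (by simp [Q])⟩

/-- Factorisation with prescribed traces from a point on a conic. -/
theorem exists_factor_of_conic {g : SLT F} (hg : ¬ IsScal g.1) {τ₁ τ₂ s R : F}
    (h : s ^ 2 - g.1.trace * s * R + R ^ 2 - τ₁ * s + τ₂ * R + 1 = 0) :
    ∃ y z : SLT F, g = y * z ∧ y.1.trace = τ₁ ∧ z.1.trace = τ₂ := by
  obtain ⟨c, h', hc, hv, e⟩ := exists_conj_normal hg
  obtain ⟨P, hP⟩ := isConj_iff.1 e.symm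
  let y : SLT F := mkSL !![τ₁ - s, (τ₂ + R - s * g.1.trace) / c; R * c, s] (by
    simp only [det_fin_two_of]; field_simp; linear_combination -h)
  refine ⟨P * y⁻¹ * P⁻¹, P * (y * h') * P⁻¹, by rw [← hP]; group, ?_, ?_⟩
  · rw [sl_trace_conj, sl_trace_inv]; simp [y, trace_fin_two]
  · rw [sl_trace_conj, sl_mul_val, hv]
    simp [y, trace_fin_two, mul_ap]
    field_simp
    ring

theorem exists_conic_of_disc [Finite F] {t : F} (ht : t ^ 2 ≠ 4) (τ₁ τ₂ : F) :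
    ∃ s R : F, s ^ 2 - t * s * R + R ^ 2 - τ₁ * s + τ₂ * R + 1 = 0 := by
  have h4 : 4 - t ^ 2 ≠ 0 := sub_ne_zero.2 (Ne.symm ht)
  set s0 := (2 * τ₁ - t * τ₂) / (4 - t ^ 2) with hs0
  set R0 := (t * τ₁ - 2 * τ₂) / (4 - t ^ 2) with hR0
  have e1 : 2 * s0 - t * R0 = τ₁ := by rw [hs0, hR0]; field_simp; ring
  have e2 : 2 * R0 - t * s0 = -τ₂ := by rw [hs0, hR0]; field_simp; ring
  obtain ⟨x, y, hxy⟩ := norm_surj (t := -t) (d := 1) (by simpa using ht)
    (-(s0 ^ 2 - t * s0 * R0 + R0 ^ 2 - τ₁ * s0 + τ₂ * R0 + 1))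
  exact ⟨s0 + x, R0 + y, by linear_combination hxy + x * e1 + y * e2⟩

/-- A semisimple non-central element is a product of elements with any two prescribed traces. -/
theorem exists_factor_of_disc [Finite F] {g : SLT F} (hg : g.1.trace ^ 2 ≠ 4) (τ₁ τ₂ : F) :
    ∃ y z : SLT F, g = y * z ∧ y.1.trace = τ₁ ∧ z.1.trace = τ₂ := by
  obtain ⟨s, R, h⟩ := exists_conic_of_disc hg τ₁ τ₂
  exact exists_factor_of_conic (sl_not_isScal_of_disc hg) h

theorem pr_isConj_of_trace [Finite F] {x y : SLT F} (hx : x.1.trace ^ 2 ≠ 4)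
    (h : y.1.trace = x.1.trace ∨ y.1.trace = -x.1.trace) : ∃ u, pr y = u * pr x * u⁻¹ := by
  rcases h with h | h
  · obtain ⟨c, hc⟩ := isConj_iff.1 (sl_isConj_of_trace hx h.symm)
    exact ⟨pr c, by rw [← hc]; simp⟩
  · obtain ⟨c, hc⟩ := isConj_iff.1 (sl_isConj_of_trace (h := -y) hx (by simp [h]))
    exact ⟨pr c, by rw [← pr_neg, ← hc]; simp⟩

end Cfsg.Agent.SL2
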